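import Groth.Agent.AdicFS.Fibre
import Groth.Agent.RegHomLib.Local

/-!
Regular homomorphisms and adic formal smoothness of the local rings.
-/

set_option autoImplicit false
set_option linter.style.haveILetI false
set_option backward.isDefEq.respectTransparency false
set_option maxHeartbeats 1000000
universe u

open IsLocalRing TensorProduct

namespace Groth.Agent.AdicFS

theorem regular_tensor_of_adic {A B : Type u} [CommRing A] [IsLocalRing A] [CommRing B] [IsLocalRing B]
    [IsNoetherianRing B] [Algebra A B] [IsLocalHom (algebraMap A B)]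
    (h : CAlgX.IsAdicFormallySmooth A B (maximalIdeal B)) (K : Type u) [Field K] [Algebra A K]
    [Algebra.QuasiFinite A K] (hK : RingHom.ker (algebraMap A K) = maximalIdeal A) :
    IsRegularRing (K ⊗[A] B) := by
  let P := maximalIdeal A
  let κ := P.ResidueField
  letI : Algebra κ K := (Ideal.ResidueField.lift P (algebraMap A K) hK.ge (fun x hx => by
    show IsUnit (algebraMap A K x)
    exact isUnit_iff_ne_zero.2 fun h0 => hx (hK.le (RingHom.mem_ker.2 h0)))).toAlgebra
  haveI : IsScalarTower A κ K := IsScalarTower.of_algebraMap_eq fun r =>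
    (Ideal.ResidueField.lift_algebraMap P (algebraMap A K) _ _ r).symm
  haveI : Algebra.QuasiFinite κ K := Algebra.QuasiFinite.of_restrictScalars A κ K
  haveI hfin : Module.Finite κ K := Module.Finite.of_quasiFinite
  haveI : IsRegularRing (K ⊗[κ] (P.Fiber B)) := fibre_geometricallyRegular_of_adic h K hfin
  exact IsRegularRing.of_ringEquiv (R := K ⊗[κ] (P.Fiber B))
    (Algebra.TensorProduct.cancelBaseChange A κ K K B).toRingEquiv

variable {R Λ : Type u} [CommRing R] [CommRing Λ] [Algebra R Λ] [IsNoetherianRing R] [IsNoetherianRing Λ]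

/-- Adic formal smoothness of all local homomorphisms gives a regular map. -/
theorem isRegularHom_of_adic (h : ∀ (q : Ideal Λ) [q.IsPrime],
      letI := (Localization.localRingHom (Ideal.comap (algebraMap R Λ) q) q (algebraMap R Λ) rfl).toAlgebra
      CAlgX.IsAdicFormallySmooth (Localization.AtPrime (Ideal.comap (algebraMap R Λ) q))
        (Localization.AtPrime q) (maximalIdeal (Localization.AtPrime q))) :
    CAlg.IsRegularHom R Λ := by
  haveI : Module.Flat R Λ := by
    refine Module.flat_of_isLocalized_maximal Λ Λ (fun n => Localization.AtPrime n)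
      (fun n _ => IsScalarTower.toAlgHom Λ Λ _ |>.toLinearMap) fun n hn => ?_
    let p := Ideal.comap (algebraMap R Λ) n
    letI := (Localization.localRingHom p n (algebraMap R Λ) rfl).toAlgebra
    haveI : IsScalarTower R (Localization.AtPrime p) (Localization.AtPrime n) := IsScalarTower.of_algebraMap_eq
      fun r => (Localization.localRingHom_to_map p n (algebraMap R Λ) rfl r).symm
    haveI : IsLocalHom (algebraMap (Localization.AtPrime p) (Localization.AtPrime n)) :=
      Localization.isLocalHom_localRingHom p n (algebraMap R Λ) rfl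
    haveI := flat_of_adic (A := Localization.AtPrime p) (B := Localization.AtPrime n) (h n)
    exact Module.Flat.trans R (Localization.AtPrime p) (Localization.AtPrime n)
  refine RegHomLib.isRegularHom_of_fields (fun p _ => ?_) fun K _ _ _ hKn => isRegularRing_iff.2 fun Q _ => ?_
  · haveI : Algebra.EssFiniteType R p.ResidueField := inferInstance
    haveI : IsNoetherianRing (Λ ⊗[R] p.ResidueField) := Algebra.EssFiniteType.isNoetherianRing Λ _
    exact isNoetherianRing_of_ringEquiv _ (Algebra.TensorProduct.comm R Λ p.ResidueField).toRingEquiv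
  let q : Ideal Λ := Q.comap (Algebra.TensorProduct.includeRight : Λ →ₐ[R] K ⊗[R] Λ)
  haveI : q.IsPrime := Ideal.IsPrime.comap _
  let p := Ideal.comap (algebraMap R Λ) q
  have hiff : ∀ r : R, algebraMap R K r = 0 ↔ r ∈ p := fun r => by
    have hr : ((1 : K) ⊗ₜ[R] algebraMap R Λ r) = (algebraMap R K r) ⊗ₜ[R] (1 : Λ) := by
      rw [Algebra.algebraMap_eq_smul_one, ← TensorProduct.smul_tmul, ← Algebra.algebraMap_eq_smul_one]
    constructor
    · intro h0
      show (1 : K) ⊗ₜ[R] algebraMap R Λ r ∈ Q
      rw [hr, h0, TensorProduct.zero_tmul]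
      exact zero_mem _
    · intro hrp
      by_contra h0
      have hu : IsUnit ((algebraMap R K r) ⊗ₜ[R] (1 : Λ)) :=
        (isUnit_iff_ne_zero.2 h0).map (Algebra.TensorProduct.includeLeftRingHom : K →+* K ⊗[R] Λ)
      rw [← hr] at hu
      exact Ideal.IsPrime.ne_top inferInstance (Ideal.eq_top_of_isUnit_mem Q hrp hu)
  letI : Algebra (Localization.AtPrime p) K := (IsLocalization.lift (M := p.primeCompl) (g := algebraMap R K)
    fun y => isUnit_iff_ne_zero.2 fun h0 => y.2 ((hiff _).1 h0)).toAlgebra
  haveI : IsScalarTower R (Localization.AtPrime p) K := IsScalarTower.of_algebraMap_eq fun r =>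
    (IsLocalization.lift_eq _ r).symm
  letI := (Localization.localRingHom p q (algebraMap R Λ) rfl).toAlgebra
  haveI : IsScalarTower R (Localization.AtPrime p) (Localization.AtPrime q) := IsScalarTower.of_algebraMap_eq
    fun r => (Localization.localRingHom_to_map p q (algebraMap R Λ) rfl r).symm
  haveI : IsLocalHom (algebraMap (Localization.AtPrime p) (Localization.AtPrime q)) :=
    Localization.isLocalHom_localRingHom p q (algebraMap R Λ) rfl
  haveI : Algebra.QuasiFinite (Localization.AtPrime p) K := Algebra.QuasiFinite.of_restrictScalars R _ K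
  have hker : RingHom.ker (algebraMap (Localization.AtPrime p) K) = maximalIdeal (Localization.AtPrime p) := by
    refine le_antisymm (le_maximalIdeal (RingHom.ker_ne_top _)) ?_
    rw [← Localization.AtPrime.map_eq_maximalIdeal, Ideal.map_le_iff_le_comap]
    intro r hr
    show algebraMap (Localization.AtPrime p) K (algebraMap R _ r) = 0
    rw [← IsScalarTower.algebraMap_apply]
    exact (hiff r).2 hr
  haveI := regular_tensor_of_adic (A := Localization.AtPrime p) (B := Localization.AtPrime q) (h q) K hker
  haveI := IsLocalization.tensorProduct_compatibleSMul p.primeCompl (Localization.AtPrime p) K (Localization.AtPrime q)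
  haveI : IsRegularRing (K ⊗[R] Localization.AtPrime q) :=
    IsRegularRing.of_ringEquiv (R := K ⊗[Localization.AtPrime p] Localization.AtPrime q)
      (Algebra.TensorProduct.equivOfCompatibleSMul R (Localization.AtPrime p) R K (Localization.AtPrime q)).toRingEquiv
  letI : Algebra Λ (K ⊗[R] Λ) := Algebra.TensorProduct.rightAlgebra
  letI : Algebra (K ⊗[R] Λ) (K ⊗[R] Localization.AtPrime q) :=
    (Algebra.TensorProduct.map (AlgHom.id R K) (IsScalarTower.toAlgHom R Λ (Localization.AtPrime q))).toRingHom.toAlgebra
  let M := Algebra.algebraMapSubmonoid (K ⊗[R] Λ) q.primeCompl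
  haveI : IsLocalization M (K ⊗[R] Localization.AtPrime q) :=
    RegHomLib.isLocalization_tensor R K Λ (Localization.AtPrime q) q.primeCompl
  have hdisj : Disjoint (M : Set (K ⊗[R] Λ)) (Q : Set (K ⊗[R] Λ)) :=
    Set.disjoint_left.2 fun x ⟨s, hs, e⟩ hx => by subst e; exact hs hx
  let N : PrimeSpectrum (K ⊗[R] Localization.AtPrime q) :=
    ⟨Q.map (algebraMap _ _), IsLocalization.isPrime_of_isPrime_disjoint M _ Q inferInstance hdisj⟩
  have h1 := (RegLocLib.mem_regLocus_iff_of_isLocalization M N).1
    (@IsRegularRing.isRegularLocalRing_localization _ _ _ N.asIdeal N.isPrime)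
  have h2 : PrimeSpectrum.comap (algebraMap (K ⊗[R] Λ) (K ⊗[R] Localization.AtPrime q)) N = ⟨Q, inferInstance⟩ :=
    PrimeSpectrum.ext (IsLocalization.under_map_of_isPrime_disjoint M _ inferInstance hdisj)
  rw [h2] at h1
  exact h1

/-- The local homomorphisms of a regular map are adically formally smooth. -/
theorem adic_of_isRegularHom (h : CAlg.IsRegularHom R Λ) (q : Ideal Λ) [q.IsPrime] :
    letI := (Localization.localRingHom (Ideal.comap (algebraMap R Λ) q) q (algebraMap R Λ) rfl).toAlgebra
    CAlgX.IsAdicFormallySmooth (Localization.AtPrime (Ideal.comap (algebraMap R Λ) q))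
      (Localization.AtPrime q) (maximalIdeal (Localization.AtPrime q)) := by
  let p := Ideal.comap (algebraMap R Λ) q
  letI := (Localization.localRingHom p q (algebraMap R Λ) rfl).toAlgebra
  haveI : IsScalarTower R (Localization.AtPrime p) (Localization.AtPrime q) := IsScalarTower.of_algebraMap_eq
    fun r => (Localization.localRingHom_to_map p q (algebraMap R Λ) rfl r).symm
  haveI : IsLocalHom (algebraMap (Localization.AtPrime p) (Localization.AtPrime q)) :=
    Localization.isLocalHom_localRingHom p q (algebraMap R Λ) rfl
  have h' := RegHomLib.isRegularHom_localization h p.primeCompl (Localization.AtPrime p) q.primeCompl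
    (Localization.AtPrime q)
  haveI := h'.1
  exact adic_of_fibre (h'.2 (maximalIdeal (Localization.AtPrime p))).2

end Groth.Agent.AdicFS
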