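import Groth.Agent.GRingCompleteLib.Main
import Groth.Agent.CohenPresLib.FlatIso
import Groth.Agent.AdicFS.Regular
import Groth.Agent.NormalTensor.Henselian
import Groth.Agent.RegHomLib.Geometric

/-!
André's theorem: formally smooth local homomorphisms out of complete Noetherian local rings are regular.
-/

set_option autoImplicit false
set_option linter.style.haveILetI false
universe u

open IsLocalRing TensorProduct

noncomputable section

namespace Groth.Agent.AdicFS

/-- Derivations of the base extend along complete formally smooth algebras. -/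
theorem exists_ext_derivation {E C : Type u} [CommRing E] [CommRing C] [IsLocalRing C] [IsNoetherianRing C]
    [IsAdicComplete (maximalIdeal C) C] [Algebra E C] (hC : CAlgX.IsAdicFormallySmooth E C (maximalIdeal C))
    (δ : Derivation ℤ E E) :
    ∃ D : Derivation ℤ C C, ∀ e, D (algebraMap E C e) = algebraMap E C (δ e) := by
  classical
  let T := TrivSqZeroExt C C
  let inlC : C →+* T := TrivSqZeroExt.inlHom C C
  let fstC : T →+* C := (TrivSqZeroExt.fstHom C C C).toRingHom
  let 𝔠 : Ideal T := (maximalIdeal C).map inlC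
  haveI : IsAdicComplete 𝔠 T := by
    haveI : Module.Finite C T := inferInstanceAs (Module.Finite C (C × C))
    exact (IsAdicComplete.map_algebraMap_iff (maximalIdeal C) T).2
      (FiniteCompleteLib.isAdicComplete_of_finite (maximalIdeal C) T)
  let J : Ideal T := RingHom.ker fstC
  have hJ2 : J ^ 2 ≤ 𝔠 := by
    rw [pow_two, Ideal.mul_le]
    intro x hx y hy
    have h0 : x * y = 0 := TrivSqZeroExt.ext
      (by rw [TrivSqZeroExt.fst_mul, show x.fst = 0 from hx, zero_mul]; rfl)
      (by rw [TrivSqZeroExt.snd_mul, show x.fst = 0 from hx, show y.fst = 0 from hy]; simp)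
    rw [h0]; exact zero_mem _
  let φ : T ⧸ J →+* C := Ideal.Quotient.lift J fstC fun a ha => ha
  have hφinj : Function.Injective φ := RingHom.lift_injective_of_ker_le_ideal J _ le_rfl
  have hφ𝔠 : ∀ n, ((𝔠.map (Ideal.Quotient.mk J)) ^ n).map φ ≤ maximalIdeal C ^ n := fun n => by
    refine (le_of_eq (Ideal.map_pow φ _ n)).trans (Ideal.pow_right_mono ?_ n)
    rw [Ideal.map_map, Ideal.map_map]
    refine Ideal.map_le_iff_le_comap.2 fun c hc => ?_
    exact hc
  haveI : IsHausdorff (𝔠.map (Ideal.Quotient.mk J)) (T ⧸ J) := ⟨fun z hz => hφinj (by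
    rw [map_zero]
    refine IsHausdorff.haus (I := maximalIdeal C) inferInstance _ fun n => ?_
    have h1 := hz n
    rw [SModEq.zero, smul_eq_mul, Ideal.mul_top] at h1 ⊢
    exact hφ𝔠 n (Ideal.mem_map_of_mem φ h1))⟩
  letI : Algebra E T := (J2CompleteLib.defHom (A := E) (L := C)
    (Derivation.mk' ((Algebra.linearMap E C).toAddMonoidHom.comp δ.toAddMonoidHom).toIntLinearMap fun x y => by
      show algebraMap E C (δ (x * y)) = x • algebraMap E C (δ y) + y • algebraMap E C (δ x)
      rw [Derivation.leibniz, map_add, smul_eq_mul, smul_eq_mul, map_mul, map_mul, Algebra.smul_def,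
        Algebra.smul_def])).toAlgebra
  let u : C →ₐ[E] T ⧸ J :=
    { (Ideal.Quotient.mk J).comp inlC with
      commutes' := fun e => Ideal.Quotient.eq.2 (RingHom.mem_ker.2 (by
        rw [map_sub]
        show algebraMap E C e - TrivSqZeroExt.fst (TrivSqZeroExt.inl (algebraMap E C e) +
          TrivSqZeroExt.inr (algebraMap E C (δ e))) = 0
        rw [TrivSqZeroExt.fst_add, TrivSqZeroExt.fst_inl, TrivSqZeroExt.fst_inr, add_zero, sub_self])) }
  obtain ⟨v, -, hv⟩ := FSmoothAdicLib.exists_lift_complete ⊥ (maximalIdeal C) 𝔠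
    (SymGrLib.isFormallySmoothAdic_bot hC) ⟨1, by rw [pow_one, Ideal.map_bot]; exact bot_le⟩ J ⟨2, hJ2⟩ u
    ⟨1, by rw [pow_one, Ideal.map_map]⟩
  have hfst : ∀ c, TrivSqZeroExt.fst (v c) = c := fun c => by
    have h1 := RingHom.mem_ker.1 (Ideal.Quotient.eq.1 (AlgHom.congr_fun hv c))
    rw [map_sub, sub_eq_zero] at h1
    exact h1
  let d : C →+ C :=
    { toFun := fun c => TrivSqZeroExt.snd (v c)
      map_zero' := by simp
      map_add' := fun x y => by rw [map_add, TrivSqZeroExt.snd_add] }
  refine ⟨Derivation.mk' d.toIntLinearMap fun x y => ?_, fun e => ?_⟩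
  · show TrivSqZeroExt.snd (v (x * y)) = x • TrivSqZeroExt.snd (v y) + y • TrivSqZeroExt.snd (v x)
    rw [map_mul, TrivSqZeroExt.snd_mul, hfst, hfst]
    simp [smul_eq_mul, mul_comm]
  · show TrivSqZeroExt.snd (v (algebraMap E C e)) = algebraMap E C (δ e)
    rw [v.commutes]
    show TrivSqZeroExt.snd (TrivSqZeroExt.inl (algebraMap E C e) + TrivSqZeroExt.inr (algebraMap E C (δ e))) = _
    rw [TrivSqZeroExt.snd_add, TrivSqZeroExt.snd_inl, TrivSqZeroExt.snd_inr, zero_add]

/-- A complete formally smooth algebra over a complete regular local ring is regular. -/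
theorem isRegularLocalRing_of_adic {E C : Type u} [CommRing E] [IsRegularLocalRing E] [CommRing C] [IsLocalRing C]
    [IsNoetherianRing C] [Algebra E C] [IsLocalHom (algebraMap E C)]
    (hC : CAlgX.IsAdicFormallySmooth E C (maximalIdeal C)) : IsRegularLocalRing C := by
  haveI := flat_of_adic hC
  let J := (maximalIdeal E).map (algebraMap E C)
  let F := C ⧸ J
  have hJ : J ≤ maximalIdeal C := IsLocalRing.map_maximalIdeal_le _
  haveI : Nontrivial F := Ideal.Quotient.nontrivial_iff.2 (ne_top_of_le_ne_top (maximalIdeal.isMaximal C).ne_top hJ)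
  haveI : IsLocalRing F := .of_surjective' _ Ideal.Quotient.mk_surjective
  have hmF : (maximalIdeal C).map (Ideal.Quotient.mk J) = maximalIdeal F :=
    eq_maximalIdeal (Ideal.IsMaximal.map_of_surjective_of_ker_le Ideal.Quotient.mk_surjective
      (by rw [Ideal.mk_ker]; exact hJ))
  let f : ResidueField E →+* F := Ideal.Quotient.lift (maximalIdeal E) ((Ideal.Quotient.mk J).comp (algebraMap E C))
    fun a ha => Ideal.Quotient.eq_zero_iff_mem.2 (Ideal.mem_map_of_mem _ ha)
  letI : Algebra (ResidueField E) F := f.toAlgebra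
  haveI : IsScalarTower E (ResidueField E) F := IsScalarTower.of_algebraMap_eq fun a => rfl
  have hsurjE : Function.Surjective (algebraMap E (ResidueField E)) := residue_surjective
  have hF : CAlgX.IsAdicFormallySmooth (ResidueField E) F (maximalIdeal F) := by
    rw [← hmF]
    refine CohenPresLib.adic_quotient hsurjE (Ideal.Quotient.mkₐ E J) Ideal.Quotient.mk_surjective ?_ _ hC
    show RingHom.ker (Ideal.Quotient.mk J) ≤ _
    rw [Ideal.mk_ker]
    exact Ideal.map_mono fun a ha => (residue_eq_zero_iff a).2 ha
  haveI : IsRegularLocalRing (C ⧸ (maximalIdeal E).map (algebraMap E C)) := (S2471.result.1 hF).1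
  exact RegHomLib.isRegularLocalRing_of_fibre E C

open GRingCompleteLib in
/-- The generic fibre over a complete local domain. -/
theorem isRegularLocalRing_over_generic {A D : Type u} [CommRing A] [IsDomain A] [IsLocalRing A] [IsNoetherianRing A]
    [IsAdicComplete (maximalIdeal A) A] [CommRing D] [IsLocalRing D] [IsNoetherianRing D]
    [IsAdicComplete (maximalIdeal D) D] [Algebra A D] [IsLocalHom (algebraMap A D)]
    (hD : CAlgX.IsAdicFormallySmooth A D (maximalIdeal D)) (q : Ideal D) [q.IsPrime]
    (hq : q.comap (algebraMap A D) = ⊥) : IsRegularLocalRing (Localization.AtPrime q) := by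
  classical
  obtain ⟨R, _, _, _, _, g, hgood, hgfin, hginj⟩ := exists_base A
  letI : Algebra R A := g.toAlgebra
  haveI : Module.Finite R A := RingHom.finite_algebraMap.1 hgfin
  obtain ⟨m, u, hu⟩ := Algebra.FiniteType.iff_quotient_mvPolynomial''.1 (inferInstance : Algebra.FiniteType R A)
  let M := MvPolynomial (Fin m) R
  letI : Algebra M A := u.toRingHom.toAlgebra
  haveI : IsNoetherianRing M := inferInstanceAs (IsNoetherianRing (MvPolynomial (Fin m) R))
  haveI : IsRegularRing M := inferInstanceAs (IsRegularRing (MvPolynomial (Fin m) R))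
  let n : Ideal M := (maximalIdeal A).comap (algebraMap M A)
  let E := EGA4.Cpl (Localization.AtPrime n)
  haveI : IsRegularLocalRing (Localization.AtPrime n) := IsRegularRing.isRegularLocalRing_localization n
  have hne := (maximalIdeal.isMaximal (Localization.AtPrime n)).ne_top
  haveI : IsRegularLocalRing E := (RegLocal.isRegularLocalRing_completion_iff _ _ hne).1 inferInstance
  haveI : IsAdicComplete (maximalIdeal E) E := by
    rw [RegLocal.maximalIdeal_completion _ _ hne]
    exact AdicCompletion.isAdicComplete_self _ (maximalIdeal _).fg_of_isNoetherianRing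
  -- the surjection `E → A`
  obtain ⟨e⟩ := exists_quotCompl M A hu (maximalIdeal A)
  let L := Localization.AtPrime (maximalIdeal A)
  let eL : A ≃+* L := (IsLocalization.atUnits A (maximalIdeal A).primeCompl
    (fun x hx => notMem_maximalIdeal.1 hx)).toRingEquiv
  have hneL := (maximalIdeal.isMaximal L).ne_top
  haveI : IsNoetherianRing L := isNoetherianRing_of_ringEquiv A eL
  haveI : IsAdicComplete (maximalIdeal L) L := by
    have h1 : maximalIdeal L = (maximalIdeal A).map (algebraMap A L) :=
      (Localization.AtPrime.map_eq_maximalIdeal).symm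
    haveI : Module.Finite A L := Module.Finite.of_surjective (Algebra.linearMap A L) eL.surjective
    rw [h1]
    exact (IsAdicComplete.map_algebraMap_iff (maximalIdeal A) L).2
      (FiniteCompleteLib.isAdicComplete_of_finite (maximalIdeal A) L)
  let ι : A →+* EGA4.Cpl L := algebraMap A (EGA4.Cpl L)
  have hι : Function.Bijective ι := by
    have h2 : Function.Bijective (algebraMap L (EGA4.Cpl L)) := by
      have h3 := AdicCompletion.of_bijective_iff.2 (inferInstance : IsAdicComplete (maximalIdeal L) L)
      rwa [show (algebraMap L (EGA4.Cpl L) : L → EGA4.Cpl L) = AdicCompletion.of (maximalIdeal L) L from rfl]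
    rw [show (ι : A → EGA4.Cpl L) = algebraMap L (EGA4.Cpl L) ∘ eL from
      funext fun a => IsScalarTower.algebraMap_apply A L (EGA4.Cpl L) a]
    exact h2.comp eL.bijective
  let ιe := RingEquiv.ofBijective ι hι
  let π : E →+* A := (ιe.symm.toRingHom.comp e.toRingEquiv.toRingHom).comp
    (Algebra.TensorProduct.includeRight : E →ₐ[M] A ⊗[M] E).toRingHom
  have hπM : ∀ x : M, π (algebraMap M E x) = algebraMap M A x := fun x => by
    show ιe.symm (e ((1 : A) ⊗ₜ[M] algebraMap M E x)) = _
    rw [ιe.symm_apply_eq, show (1 : A) ⊗ₜ[M] algebraMap M E x = algebraMap A (A ⊗[M] E) (algebraMap M A x) from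
      ((Algebra.TensorProduct.algebraMap_apply (A := A) (B := E) (algebraMap M A x)).trans
        (Algebra.TensorProduct.tmul_one_eq_one_tmul x)).symm, e.commutes]
    rfl
  have hπ : Function.Surjective π :=
    (ιe.symm.surjective.comp e.surjective).comp (TensorProduct.mk_surjective M E A hu)
  let P : Ideal M := RingHom.ker (algebraMap M A)
  haveI : P.IsPrime := RingHom.ker_isPrime _
  have hkerπ : RingHom.ker π = P.map (algebraMap M E) := by
    refine le_antisymm (fun x hx => ?_) (Ideal.map_le_iff_le_comap.2 fun x hx => ?_)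
    · have h1 : (1 : A) ⊗ₜ[M] x = 0 := e.injective (ιe.symm.injective (by rw [map_zero, map_zero]; exact hx))
      let qe := (Ideal.quotientKerAlgEquivOfSurjective (f := Algebra.ofId M A) hu).toLinearEquiv
      have h2 : (1 : M ⧸ P) ⊗ₜ[M] x = 0 := (qe.rTensor E).injective (by
        refine Eq.trans (Eq.trans ?_ h1) (LinearEquiv.map_zero _).symm
        show qe 1 ⊗ₜ[M] x = _
        rw [show qe 1 = 1 from map_one (Ideal.quotientKerAlgEquivOfSurjective (f := Algebra.ofId M A) hu)])
      have h3 : x ∈ (P • ⊤ : Submodule M E) := by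
        rw [← LinearMap.ker_tensorProductMk E]
        exact h2
      rwa [Ideal.smul_top_eq_map] at h3
    · rw [Ideal.mem_comap, RingHom.mem_ker, hπM]
      exact hx
  -- the lift
  let J : Ideal E := RingHom.ker π
  have hJ : J ≤ maximalIdeal E := le_maximalIdeal (RingHom.ker_ne_top π)
  haveI : Nontrivial (E ⧸ J) := Ideal.Quotient.nontrivial_iff.2 (RingHom.ker_ne_top π)
  haveI : IsLocalRing (E ⧸ J) := .of_surjective' _ Ideal.Quotient.mk_surjective
  let ee : (E ⧸ J) ≃+* A := RingHom.quotientKerEquivOfSurjective hπ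
  letI : Algebra (E ⧸ J) D := ((algebraMap A D).comp ee.toRingHom).toAlgebra
  letI : Algebra A (E ⧸ J) := ee.symm.toRingHom.toAlgebra
  haveI : IsScalarTower A (E ⧸ J) D := IsScalarTower.of_algebraMap_eq fun a => by
    show algebraMap A D a = algebraMap A D (ee (ee.symm a))
    rw [ee.apply_symm_apply]
  haveI : IsLocalHom (algebraMap (E ⧸ J) D) :=
    ⟨fun x hx => (MulEquiv.isUnit_map ee).1 (isUnit_of_map_unit (algebraMap A D) _ hx)⟩
  have hfs : EGA41.IsFormallySmoothAdic (E ⧸ J) (maximalIdeal (E ⧸ J)) D (maximalIdeal D) := by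
    have h1 := CohenPresLib.adic_quotient (A' := E ⧸ J) (B' := D) ee.symm.surjective (AlgHom.id A D)
      Function.surjective_id (fun x hx => by
        rw [show x = 0 from hx]; exact zero_mem _) _ hD
    rw [show (AlgHom.id A D).toRingHom = RingHom.id D from rfl, Ideal.map_id] at h1
    intro T _ _ I hI _ w hw
    exact SymGrLib.isFormallySmoothAdic_bot h1 T I hI ⟨1, by simp⟩ w hw
  obtain ⟨C, _, _, _, hnoe, hcomp, hloc, -, πC, hπC, hπa, hker, hC⟩ :=
    CohenPresLib.exists_lift_quotient J hJ D hfs
  haveI := hnoe
  haveI := hcomp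
  haveI := hloc
  haveI : IsRegularLocalRing C := isRegularLocalRing_of_adic hC
  haveI : IsRegularRing C := RegLocLib.isRegularRing_of_isRegularLocalRing C
  letI : Algebra M C := ((algebraMap E C).comp (algebraMap M E)).toAlgebra
  have hπC' : ∀ x : M, πC (algebraMap M C x) = algebraMap A D (algebraMap M A x) := fun x => by
    show πC (algebraMap E C (algebraMap M E x)) = _
    rw [hπa, ← hπM]
    rfl
  let Q := q.comap πC
  have hQ : Q.comap (algebraMap M C) = P := by
    ext x
    rw [Ideal.mem_comap, Ideal.mem_comap, hπC', ← Ideal.mem_comap (f := algebraMap A D), hq, Ideal.mem_bot]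
    rfl
  have hPbot : P.comap (MvPolynomial.C (σ := Fin m) (R := R)) = ⊥ := by
    rw [eq_bot_iff]
    intro r hr
    rw [Ideal.mem_bot]
    apply hginj
    rw [map_zero]
    exact (u.commutes r).symm.trans hr
  haveI : IsRegularLocalRing (Localization.AtPrime P) := IsRegularRing.isRegularLocalRing_localization P
  haveI : IsRegularLocalRing (Localization.AtPrime Q) := IsRegularRing.isRegularLocalRing_localization Q
  have hreg := isRegularLocalRing_quot_map P (baseDers R (Fin m))
    (fun f hf hδ => baseDers_detect hgood P hPbot f hf hδ) Q hQ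
    (fun δ _ => by
      obtain ⟨E₁, hE₁⟩ := exists_ext_cpl n δ
      obtain ⟨D₁, hD₁⟩ := exists_ext_derivation hC E₁
      refine ⟨D₁, fun x => (hD₁ (algebraMap M E x)).trans (congrArg (algebraMap E C) ?_)⟩
      have h := hE₁ x
      rw [toCpl, RingHom.comp_apply, RingHom.comp_apply, ← IsScalarTower.algebraMap_apply,
        ← IsScalarTower.algebraMap_apply] at h
      exact h)
  haveI : IsRegularLocalRing (Localization.AtPrime Q ⧸
      (P.map (algebraMap M C)).map (algebraMap C (Localization.AtPrime Q))) := by
    rw [Ideal.map_map, ← IsScalarTower.algebraMap_eq]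
    exact hreg
  refine GRingCompleteLib.isRegularLocalRing_of_surjective πC hπC (P.map (algebraMap M C)) ?_ q
  rw [hker]
  show (RingHom.ker π).map (algebraMap E C) = P.map ((algebraMap E C).comp (algebraMap M E))
  rw [hkerπ, Ideal.map_map]

/-- Formal smoothness passes to finite base change, at every maximal ideal. -/
theorem adic_baseChange_atPrime {A B D : Type u} [CommRing A] [IsLocalRing A] [CommRing B] [Algebra A B]
    [Module.Finite A B] [CommRing D] [IsLocalRing D] [Algebra A D] (hD : CAlgX.IsAdicFormallySmooth A D (maximalIdeal D))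
    (N : Ideal (B ⊗[A] D)) [N.IsMaximal] :
    CAlgX.IsAdicFormallySmooth B (Localization.AtPrime N) (maximalIdeal (Localization.AtPrime N)) := by
  refine RegHomLib.isAdicFormallySmooth_atPrime N fun T _ _ J hJ ψ ⟨k, hk⟩ => ?_
  letI : Algebra A T := Algebra.compHom T (algebraMap A B)
  haveI : IsScalarTower A B T := IsScalarTower.of_algebraMap_eq fun _ => rfl
  let ι : D →ₐ[A] B ⊗[A] D := Algebra.TensorProduct.includeRight
  letI : Algebra D (B ⊗[A] D) := Algebra.TensorProduct.rightAlgebra
  haveI : Module.Finite D (B ⊗[A] D) := Module.Finite.equiv (Algebra.TensorProduct.commRight A D B).toLinearEquiv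
  have hN : (maximalIdeal D).map ι.toRingHom ≤ N := by
    rw [Ideal.map_le_iff_le_comap]
    exact (eq_maximalIdeal (Ideal.isMaximal_comap_of_isIntegral_of_isMaximal (R := D) N)).ge
  obtain ⟨χ, hχ⟩ := hD T J hJ ((ψ.restrictScalars A).comp ι) ⟨k, fun x hx => hk _ (by
    refine Ideal.pow_right_mono hN k ?_
    rw [← Ideal.map_pow]
    exact Ideal.mem_map_of_mem ι.toRingHom hx)⟩
  refine ⟨Algebra.TensorProduct.lift (Algebra.ofId B T) χ fun _ _ => Commute.all _ _,
    Algebra.TensorProduct.ext' fun b d => ?_⟩
  show Ideal.Quotient.mk J (Algebra.TensorProduct.lift (Algebra.ofId B T) χ (fun _ _ => Commute.all _ _) (b ⊗ₜ[A] d)) = ψ (b ⊗ₜ[A] d)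
  rw [Algebra.TensorProduct.lift_tmul, map_mul,
    show b ⊗ₜ[A] d = algebraMap B (B ⊗[A] D) b * ι d by simp [ι, Algebra.TensorProduct.algebraMap_apply], map_mul,
    ψ.commutes]
  exact congrArg _ (AlgHom.congr_fun hχ d)

/-- **André's theorem**, complete case. -/
theorem isRegularHom_of_complete {A D : Type u} [CommRing A] [IsLocalRing A] [IsNoetherianRing A]
    [IsAdicComplete (maximalIdeal A) A] [CommRing D] [IsLocalRing D] [IsNoetherianRing D]
    [IsAdicComplete (maximalIdeal D) D] [Algebra A D] [IsLocalHom (algebraMap A D)]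
    (hD : CAlgX.IsAdicFormallySmooth A D (maximalIdeal D)) : CAlg.IsRegularHom A D := by
  haveI := flat_of_adic hD
  refine (RegDesc.isRegularHom_iff_finite_domains A D).2 fun B _ _ _ _ q _ hq => ?_
  haveI : HenselianLocalRing A := Hensel.henselianRing_maximalIdeal_iff.mp inferInstance
  haveI : IsLocalRing B := NormalTensor.isLocalRing_of_finite_domain A B
  haveI : IsNoetherianRing B := IsNoetherianRing.of_finite A B
  haveI : IsAdicComplete (maximalIdeal B) B := FiniteCompleteLib.isAdicComplete_maximalIdeal A B
  let T := B ⊗[A] D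
  letI : Algebra D T := Algebra.TensorProduct.rightAlgebra
  haveI : Module.Finite D T := Module.Finite.equiv (Algebra.TensorProduct.commRight A D B).toLinearEquiv
  obtain ⟨N, hN, hqN⟩ := Ideal.exists_le_maximal q (Ideal.IsPrime.ne_top inferInstance)
  haveI := hN
  obtain ⟨-, -, hfac⟩ := FiniteCompleteLib.main D T
  obtain ⟨hnoe, hcomp⟩ := hfac ⟨N, hN⟩
  let TN := Localization.AtPrime N
  haveI : IsNoetherianRing TN := hnoe
  haveI : IsAdicComplete (maximalIdeal TN) TN := hcomp
  have hNB : N.comap (algebraMap B T) = maximalIdeal B := by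
    have h1 : (maximalIdeal D).map (algebraMap D T) ≤ N := by
      rw [Ideal.map_le_iff_le_comap]
      exact (eq_maximalIdeal (Ideal.isMaximal_comap_of_isIntegral_of_isMaximal (R := D) N)).ge
    have h2 : (maximalIdeal A).map (algebraMap A B) ≤ N.comap (algebraMap B T) :=
      Ideal.map_le_iff_le_comap.2 fun a ha => by
        show algebraMap B T (algebraMap A B a) ∈ N
        rw [show algebraMap B T (algebraMap A B a) = algebraMap D T (algebraMap A D a) from
          Algebra.TensorProduct.tmul_one_eq_one_tmul a]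
        exact h1 (Ideal.mem_map_of_mem _ (map_nonunit _ a ha))
    have h3 : (N.comap (algebraMap B T)).comap (algebraMap A B) = maximalIdeal A :=
      ((maximalIdeal.isMaximal A).eq_of_le (Ideal.IsPrime.ne_top (Ideal.IsPrime.comap _))
        (Ideal.map_le_iff_le_comap.1 h2)).symm
    haveI : ((N.comap (algebraMap B T)).comap (algebraMap A B)).IsMaximal := h3 ▸ maximalIdeal.isMaximal A
    exact eq_maximalIdeal (Ideal.isMaximal_of_isIntegral_of_isMaximal_comap _ this)
  haveI : IsLocalHom (algebraMap B TN) := ⟨fun b hb => by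
    by_contra hu
    have h1 : algebraMap B T b ∈ N := hNB.ge hu
    rw [IsScalarTower.algebraMap_apply B T TN] at hb
    exact (IsLocalization.AtPrime.to_map_mem_maximal_iff TN N _).2 h1 hb⟩
  have hdisj : Disjoint (N.primeCompl : Set T) (q : Set T) := Set.disjoint_left.2 fun x hx hxq => hx (hqN hxq)
  let q' := q.map (algebraMap T TN)
  haveI : q'.IsPrime := IsLocalization.isPrime_of_isPrime_disjoint N.primeCompl TN q inferInstance hdisj
  have hq' : q'.comap (algebraMap T TN) = q :=
    IsLocalization.under_map_of_isPrime_disjoint N.primeCompl TN inferInstance hdisj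
  haveI : IsRegularLocalRing (Localization.AtPrime q') :=
    isRegularLocalRing_over_generic (adic_baseChange_atPrime hD N) q' (by
      rw [IsScalarTower.algebraMap_eq B T TN, ← Ideal.comap_comap, hq', hq])
  have hloc := IsLocalization.isLocalization_isLocalization_atPrime_isLocalization N.primeCompl
    (Localization.AtPrime q') q'
  haveI : IsLocalization.AtPrime (Localization.AtPrime q') q := by convert! hloc; exact hq'.symm
  exact IsRegularLocalRing.of_ringEquiv (R := Localization.AtPrime q')
    (IsLocalization.algEquiv q.primeCompl (Localization.AtPrime q') (Localization.AtPrime q)).toRingEquiv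

end Groth.Agent.AdicFS
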