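import Mathlib
import Groth.Prelude.Def_EGA41
import Groth.Prelude.Def_CAlgX
import Groth.Agent.SymGrLib.Extension

/-!
Adic formal smoothness and completions.
-/

set_option autoImplicit false
universe u

open IsLocalRing

namespace Groth.Agent.AdicFS

theorem adicCompletion_iff {A B : Type u} [CommRing A] (𝔞 : Ideal A) [CommRing B] [Algebra A B] (𝔟 : Ideal B) (hfg : 𝔟.FG) :
    EGA41.IsFormallySmoothAdic A 𝔞 B 𝔟 ↔
      EGA41.IsFormallySmoothAdic A 𝔞 (AdicCompletion 𝔟 B) (𝔟.map (algebraMap B (AdicCompletion 𝔟 B))) := by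
  let Bh := AdicCompletion 𝔟 B
  have hrep : ∀ (n : ℕ) (x : Bh), ∃ c : B, x - algebraMap B Bh c ∈ (𝔟.map (algebraMap B Bh)) ^ n := by
    intro n x
    obtain ⟨c, hc⟩ := Submodule.Quotient.mk_surjective _ (x.val n)
    refine ⟨c, ?_⟩
    have hmem : x - algebraMap B Bh c ∈ 𝔟 ^ n • (⊤ : Submodule B Bh) := by
      rw [AdicCompletion.pow_smul_top_eq_ker_eval hfg, LinearMap.mem_ker, map_sub, sub_eq_zero]
      exact hc.symm
    rw [Ideal.smul_top_eq_map, Submodule.restrictScalars_mem, Ideal.map_pow] at hmem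
    exact hmem
  have hker : ∀ n, (𝔟.map (algebraMap B Bh)) ^ n ≤ RingHom.ker (AdicCompletion.evalₐ 𝔟 n).toRingHom := by
    intro n
    rw [← Ideal.map_pow, Ideal.map_le_iff_le_comap]
    intro b hb
    show AdicCompletion.evalₐ 𝔟 n (algebraMap B Bh b) = 0
    rw [AlgHom.commutes]
    exact Ideal.Quotient.eq_zero_iff_mem.2 hb
  have hev : ∀ (n : ℕ) (b : B), AdicCompletion.evalₐ 𝔟 n (algebraMap B Bh b) = Ideal.Quotient.mk (𝔟 ^ n) b :=
    fun n b => AlgHom.commutes _ b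
  constructor
  · intro h C _ _ J hJ hC u hu
    obtain ⟨k, hk⟩ := hu
    obtain ⟨t, ht⟩ := hJ
    obtain ⟨v, hv⟩ := h C J ⟨t, ht⟩ hC (u.comp (IsScalarTower.toAlgHom A B Bh))
      ⟨k, fun x hx => hk _ (by rw [← Ideal.map_pow]; exact Ideal.mem_map_of_mem _ hx)⟩
    have hv0 : ∀ x ∈ 𝔟 ^ (k * t), v x = 0 := by
      have hle : Ideal.map v.toRingHom (𝔟 ^ k) ≤ J := Ideal.map_le_iff_le_comap.2 fun x hx =>
        (Ideal.Quotient.eq_zero_iff_mem (I := J)).1 ((AlgHom.congr_fun hv x).trans (hk _ (by rw [← Ideal.map_pow]; exact Ideal.mem_map_of_mem _ hx)))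
      intro x hx
      rw [pow_mul] at hx
      have h1 := Ideal.mem_map_of_mem v.toRingHom hx
      rw [Ideal.map_pow] at h1
      have h2 := Ideal.pow_right_mono hle t h1
      rwa [ht, Ideal.zero_eq_bot, Ideal.mem_bot] at h2
    let vh : Bh →ₐ[A] C := (Ideal.Quotient.liftₐ _ v hv0).comp ((AdicCompletion.evalₐ 𝔟 (k * t)).restrictScalars A)
    have hvh : ∀ b, vh (algebraMap B Bh b) = v b := fun b => by
      show Ideal.Quotient.liftₐ _ v hv0 (AdicCompletion.evalₐ 𝔟 (k * t) (algebraMap B Bh b)) = v b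
      rw [hev]
      rfl
    refine ⟨vh, AlgHom.ext fun x => ?_⟩
    obtain ⟨c, hc⟩ := hrep (k * t + k) x
    rw [← sub_add_cancel x (algebraMap B Bh c), map_add, map_add]
    have h1 : ((Ideal.Quotient.mkₐ A J).comp vh) (x - algebraMap B Bh c) = 0 := by
      rw [AlgHom.comp_apply, show vh (x - algebraMap B Bh c) = 0 from ?_, map_zero]
      show Ideal.Quotient.liftₐ _ v hv0 (AdicCompletion.evalₐ 𝔟 (k * t) _) = 0
      rw [show AdicCompletion.evalₐ 𝔟 (k * t) (x - algebraMap B Bh c) = 0 from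
        hker _ (Ideal.pow_le_pow_right (Nat.le_add_right _ _) hc), map_zero]
    rw [h1, hk _ (Ideal.pow_le_pow_right (Nat.le_add_left _ _) hc), AlgHom.comp_apply, hvh]
    exact congrArg (0 + ·) (AlgHom.congr_fun hv c)
  · intro h C _ _ J hJ hC u hu
    obtain ⟨k, hk⟩ := hu
    obtain ⟨v, hv⟩ := h C J hJ hC ((Ideal.Quotient.liftₐ _ u hk).comp ((AdicCompletion.evalₐ 𝔟 k).restrictScalars A))
      ⟨k, fun x hx => by
        show Ideal.Quotient.liftₐ _ u hk (AdicCompletion.evalₐ 𝔟 k x) = 0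
        rw [show AdicCompletion.evalₐ 𝔟 k x = 0 from hker _ hx, map_zero]⟩
    refine ⟨v.comp (IsScalarTower.toAlgHom A B Bh), AlgHom.ext fun b => ?_⟩
    refine (AlgHom.congr_fun hv _).trans ?_
    show Ideal.Quotient.liftₐ _ u hk (AdicCompletion.evalₐ 𝔟 k (algebraMap B Bh b)) = u b
    rw [hev]
    rfl


theorem bot_iff {A B : Type u} [CommRing A] [CommRing B] [Algebra A B] (𝔫 : Ideal B) :
    CAlgX.IsAdicFormallySmooth A B 𝔫 ↔ EGA41.IsFormallySmoothAdic A ⊥ B 𝔫 :=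
  ⟨SymGrLib.isFormallySmoothAdic_bot, fun h D _ _ J hJ ψ hψ =>
    h D J ⟨2, hJ⟩ ⟨1, by rw [pow_one, Ideal.map_bot]⟩ ψ hψ⟩

theorem adicCompletion_iff' {R S : Type u} [CommRing R] [CommRing S] [Algebra R S] (𝔫 : Ideal S) (h𝔫 : 𝔫.FG) :
    CAlgX.IsAdicFormallySmooth R S 𝔫 ↔
      CAlgX.IsAdicFormallySmooth R (AdicCompletion 𝔫 S) (𝔫.map (algebraMap S (AdicCompletion 𝔫 S))) := by
  rw [bot_iff, bot_iff]
  exact adicCompletion_iff ⊥ 𝔫 h𝔫

/-- Two maps out of a completion agree if they agree on the ring and both kill a power of the ideal. -/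
theorem hom_ext_completion {R T : Type u} [CommRing R] [CommRing T] (𝔪 : Ideal R) (h𝔪 : 𝔪.FG)
    (f g : AdicCompletion 𝔪 R →+* T) (h : f.comp (algebraMap R _) = g.comp (algebraMap R _))
    (N : ℕ) (hf : ∀ r ∈ 𝔪 ^ N, f (algebraMap R _ r) = 0) : f = g := by
  refine RingHom.ext fun x => ?_
  obtain ⟨c, hc⟩ := Submodule.Quotient.mk_surjective _ (x.val N)
  have hmem : x - algebraMap R _ c ∈ (𝔪 ^ N).map (algebraMap R (AdicCompletion 𝔪 R)) := by
    have : x - algebraMap R _ c ∈ 𝔪 ^ N • (⊤ : Submodule R (AdicCompletion 𝔪 R)) := by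
      rw [AdicCompletion.pow_smul_top_eq_ker_eval h𝔪, LinearMap.mem_ker, map_sub, sub_eq_zero]
      exact hc.symm
    rwa [Ideal.smul_top_eq_map, Submodule.restrictScalars_mem] at this
  have h1 : (𝔪 ^ N).map (algebraMap R (AdicCompletion 𝔪 R)) ≤ RingHom.ker f :=
    Ideal.map_le_iff_le_comap.2 fun r hr => hf r hr
  have h2 : (𝔪 ^ N).map (algebraMap R (AdicCompletion 𝔪 R)) ≤ RingHom.ker g :=
    Ideal.map_le_iff_le_comap.2 fun r hr => (RingHom.congr_fun h r).symm.trans (hf r hr)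
  have e1 := RingHom.mem_ker.1 (h1 hmem)
  have e2 := RingHom.mem_ker.1 (h2 hmem)
  rw [map_sub, sub_eq_zero] at e1 e2
  rw [e1, e2]
  exact RingHom.congr_fun h c

theorem completion_map_iff {R S : Type u} [CommRing R] [CommRing S]
    [Algebra R S] (𝔪 : Ideal R) (𝔫 : Ideal S) (h𝔪 : 𝔪.FG) (h𝔫 : 𝔫.FG)
    (hc : ∃ c : ℕ, (𝔪 ^ c).map (algebraMap R S) ≤ 𝔫)
    (ψ : AdicCompletion 𝔪 R →+* AdicCompletion 𝔫 S)
    (hψ : ψ.comp (algebraMap R (AdicCompletion 𝔪 R)) =
      (algebraMap S (AdicCompletion 𝔫 S)).comp (algebraMap R S)) :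
    CAlgX.IsAdicFormallySmooth R S 𝔫 ↔
      letI : Algebra (AdicCompletion 𝔪 R) (AdicCompletion 𝔫 S) := ψ.toAlgebra
      CAlgX.IsAdicFormallySmooth (AdicCompletion 𝔪 R) (AdicCompletion 𝔫 S)
        (𝔫.map (algebraMap S (AdicCompletion 𝔫 S))) := by
  classical
  letI : Algebra (AdicCompletion 𝔪 R) (AdicCompletion 𝔫 S) := ψ.toAlgebra
  obtain ⟨c, hc⟩ := hc
  haveI : IsScalarTower R (AdicCompletion 𝔪 R) (AdicCompletion 𝔫 S) := IsScalarTower.of_algebraMap_eq fun r => by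
    rw [RingHom.algebraMap_toAlgebra, ← RingHom.comp_apply ψ, hψ, RingHom.comp_apply,
      ← IsScalarTower.algebraMap_apply]
  have hcm : ∀ (k : ℕ), ∀ r ∈ 𝔪 ^ (c * k), algebraMap R (AdicCompletion 𝔫 S) r ∈
      (𝔫.map (algebraMap S (AdicCompletion 𝔫 S))) ^ k := fun k r hr => by
    rw [pow_mul] at hr
    have h1 := Ideal.mem_map_of_mem (algebraMap R S) hr
    rw [Ideal.map_pow] at h1
    rw [IsScalarTower.algebraMap_apply R S (AdicCompletion 𝔫 S), ← Ideal.map_pow]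
    exact Ideal.mem_map_of_mem _ (Ideal.pow_right_mono hc k h1)
  rw [adicCompletion_iff' 𝔫 h𝔫]
  constructor
  · intro h T _ _ J hJ u ⟨k, hk⟩
    letI : Algebra R T := Algebra.compHom T (algebraMap R (AdicCompletion 𝔪 R))
    haveI : IsScalarTower R (AdicCompletion 𝔪 R) T := IsScalarTower.of_algebraMap_eq fun _ => rfl
    obtain ⟨χ, hχ⟩ := h T J hJ (u.restrictScalars R) ⟨k, hk⟩
    have hkill : ∀ x ∈ (𝔫.map (algebraMap S (AdicCompletion 𝔫 S))) ^ (k + k), χ x = 0 := fun x hx => by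
      rw [pow_add] at hx
      refine Submodule.mul_induction_on hx (fun a ha b hb => ?_) (fun a b ha hb => by rw [map_add, ha, hb, add_zero])
      have hmem : ∀ y ∈ (𝔫.map (algebraMap S (AdicCompletion 𝔫 S))) ^ k, χ y ∈ J := fun y hy =>
        Ideal.Quotient.eq_zero_iff_mem.1 ((AlgHom.congr_fun hχ y).trans (hk y hy))
      have := Ideal.mul_mem_mul (hmem a ha) (hmem b hb)
      rw [← pow_two, hJ, Ideal.mem_bot] at this
      rw [map_mul, this]
    have heq : χ.toRingHom.comp (algebraMap (AdicCompletion 𝔪 R) (AdicCompletion 𝔫 S)) =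
        algebraMap (AdicCompletion 𝔪 R) T := by
      refine hom_ext_completion 𝔪 h𝔪 _ _ (RingHom.ext fun r => ?_) (c * (k + k)) fun r hr => ?_
      · simp only [RingHom.comp_apply, ← IsScalarTower.algebraMap_apply]
        exact χ.commutes r
      · simp only [RingHom.comp_apply, ← IsScalarTower.algebraMap_apply]
        exact hkill _ (hcm _ r hr)
    exact ⟨{ χ.toRingHom with commutes' := RingHom.congr_fun heq }, AlgHom.ext fun x => AlgHom.congr_fun hχ x⟩
  · intro h T _ _ J hJ u ⟨k, hk⟩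
    have hJm : ∀ r ∈ 𝔪 ^ (c * k), algebraMap R T r ∈ J := fun r hr =>
      Ideal.Quotient.eq_zero_iff_mem.1 ((u.commutes r).symm.trans (hk _ (hcm k r hr)))
    have h2 : ∀ r ∈ 𝔪 ^ (c * k + c * k), algebraMap R T r = 0 := fun r hr => by
      rw [pow_add] at hr
      refine Submodule.mul_induction_on hr (fun a ha b hb => ?_) (fun a b ha hb => by rw [map_add, ha, hb, add_zero])
      have := Ideal.mul_mem_mul (hJm a ha) (hJm b hb)
      rw [← pow_two, hJ, Ideal.mem_bot] at this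
      rw [map_mul, this]
    let g : AdicCompletion 𝔪 R →+* T :=
      (Ideal.Quotient.lift (𝔪 ^ (c * k + c * k)) (algebraMap R T) h2).comp
        (AdicCompletion.evalₐ 𝔪 (c * k + c * k)).toRingHom
    letI : Algebra (AdicCompletion 𝔪 R) T := g.toAlgebra
    have hg : ∀ r, g (algebraMap R _ r) = algebraMap R T r := fun r => by
      show Ideal.Quotient.lift _ (algebraMap R T) h2 (AdicCompletion.evalₐ 𝔪 _ (algebraMap R _ r)) = _
      rw [AlgHom.commutes]
      rfl
    haveI : IsScalarTower R (AdicCompletion 𝔪 R) T := IsScalarTower.of_algebraMap_eq fun r => (hg r).symm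
    have heq : u.toRingHom.comp (algebraMap (AdicCompletion 𝔪 R) (AdicCompletion 𝔫 S)) =
        algebraMap (AdicCompletion 𝔪 R) (T ⧸ J) := by
      refine hom_ext_completion 𝔪 h𝔪 _ _ (RingHom.ext fun r => ?_) (c * k) fun r hr => ?_
      · simp only [RingHom.comp_apply, ← IsScalarTower.algebraMap_apply]
        exact u.commutes r
      · simp only [RingHom.comp_apply, ← IsScalarTower.algebraMap_apply]
        exact hk _ (hcm k r hr)
    obtain ⟨χ, hχ⟩ := h T J hJ { u.toRingHom with commutes' := RingHom.congr_fun heq } ⟨k, hk⟩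
    exact ⟨χ.restrictScalars R, AlgHom.ext fun x => AlgHom.congr_fun hχ x⟩

end Groth.Agent.AdicFS
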