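import Groth.Agent.AdicFS.Andre
import Groth.Agent.AdicFS.Completion
import Groth.Agent.GRingCompleteLib.Descend

/-!
André's theorem over a local ring with regular formal fibres.
-/

set_option autoImplicit false
set_option linter.style.haveILetI false
universe u

open IsLocalRing

noncomputable section

namespace Groth.Agent.AdicFS

/-- Formally smooth local homomorphisms out of a local ring with geometrically regular formal fibres are regular. -/
theorem isRegularHom_of_adic_local {A B : Type u} [CommRing A] [CommRing B] [IsLocalRing A] [IsLocalRing B]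
    [IsNoetherianRing A] [IsNoetherianRing B] [Algebra A B] [IsLocalHom (algebraMap A B)]
    (hA : CAlg.IsRegularHom A (EGA4.Cpl A)) (h : CAlgX.IsAdicFormallySmooth A B (maximalIdeal B)) :
    CAlg.IsRegularHom A B := by
  haveI := flat_of_adic h
  obtain ⟨_, hnA, hcA, _, hmA⟩ := RatliffLib.compl_facts A
  obtain ⟨_, hnB, hcB, _, hmB⟩ := RatliffLib.compl_facts B
  haveI := hnA
  haveI := hcA
  haveI := hnB
  haveI := hcB
  let Ah := AdicCompletion (maximalIdeal A) A
  let Bh := AdicCompletion (maximalIdeal B) B
  have hle : (maximalIdeal A).map (algebraMap A B) ≤ maximalIdeal B := IsLocalRing.map_maximalIdeal_le _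
  let ψ := CMCat.complHom (algebraMap A B) (maximalIdeal A) (maximalIdeal B) hle
  have hψ : ψ.comp (algebraMap A Ah) = (algebraMap B Bh).comp (algebraMap A B) :=
    RingHom.ext fun a => CMCat.complHom_algebraMap _ _ _ hle a
  have h' := (completion_map_iff (maximalIdeal A) (maximalIdeal B) (maximalIdeal A).fg_of_isNoetherianRing
    (maximalIdeal B).fg_of_isNoetherianRing ⟨1, by rw [pow_one]; exact hle⟩ ψ hψ).1 h
  letI : Algebra Ah Bh := ψ.toAlgebra
  rw [← hmB] at h'
  haveI : IsScalarTower A Ah Bh := IsScalarTower.of_algebraMap_eq fun a => by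
    rw [IsScalarTower.algebraMap_apply A B Bh]
    exact (RingHom.congr_fun hψ a).symm
  haveI : IsLocalHom (algebraMap Ah Bh) := by
    refine ((local_hom_TFAE _).out 0 2).mpr ?_
    rw [hmA, Ideal.map_map, ← IsScalarTower.algebraMap_eq, IsScalarTower.algebraMap_eq A B Bh, ← Ideal.map_map, hmB]
    exact Ideal.map_mono hle
  have hB : CAlg.IsRegularHom A Bh := RegDesc.isRegularHom_comp A Ah Bh hA (isRegularHom_of_complete h')
  haveI : Module.FaithfullyFlat B Bh :=
    RegLocal.faithfullyFlat_completion B _ (maximalIdeal.isMaximal B).ne_top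
  exact RegDesc.isRegularHom_of_comp A B Bh hB

end Groth.Agent.AdicFS
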