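import Mathlib
import Groth.Agent.ArtFree.Basic
import Groth.Agent.FSmoothAdicLib.Reduction
import Groth.Agent.SymGrLib.Extension
import Groth.Agent.SmoothingLib.ResolveRegular

/-!
A flat local algebra whose closed fibre is adically formally smooth is adically formally smooth.
-/

set_option autoImplicit false
set_option linter.style.haveILetI false
universe u v w

open IsLocalRing TensorProduct

namespace Groth.Agent.AdicFS

/-- Over a local ring with nilpotent maximal ideal, linear maps out of a flat module that vanish on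
the first term of a filtration lift to maps vanishing on the last one. -/
theorem exists_lift_filtered {R G : Type u} [CommRing R] [IsLocalRing R] [AddCommGroup G] [Module R G]
    [Module.Flat R G] {N : ℕ} (hN : maximalIdeal R ^ (N + 1) = ⊥) (S : ℕ → Submodule R G)
    (hS : Antitone S) (hAR : ∀ j, S (j + 1) ⊓ maximalIdeal R • ⊤ ≤ maximalIdeal R • S j)
    {P Q : Type v} [AddCommGroup P] [Module R P] [AddCommGroup Q] [Module R Q] (f : P →ₗ[R] Q)
    (hf : Function.Surjective f) (g : G →ₗ[R] Q) (hg : S 0 ≤ LinearMap.ker g) :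
    ∃ h : G →ₗ[R] P, f ∘ₗ h = g ∧ S N ≤ LinearMap.ker h := by
  classical
  let k := ResidueField R
  let μ : G →ₗ[R] k ⊗[R] G := TensorProduct.mk R k G 1
  have hμ : Function.Surjective μ := TensorProduct.mk_surjective R G k IsLocalRing.residue_surjective
  have hμker : LinearMap.ker μ = maximalIdeal R • ⊤ := LinearMap.ker_tensorProductMk G
  let V : ℕ → Set (k ⊗[R] G) := fun j => μ '' (S j : Set G)
  have hV : ∀ {i j}, i ≤ j → V j ⊆ V i := fun h => Set.image_mono (hS h)
  have hex : ∀ i, ∃ t : Set (k ⊗[R] G), LinearIndepOn k id t ∧ t ⊆ V (N - i) ∧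
      ∀ j, N - i ≤ j → j ≤ N → V j ⊆ Submodule.span k (t ∩ V j) := by
    intro i
    induction i with
    | zero =>
      obtain ⟨t, ht, -, hsp, hli⟩ :=
        exists_linearIndepOn_id_extension (linearIndepOn_empty k id) (Set.empty_subset (V N))
      refine ⟨t, hli, ht, fun j h1 h2 => ?_⟩
      obtain rfl : j = N := le_antisymm h2 h1
      rwa [Set.inter_eq_left.2 ht]
    | succ i ih =>
      obtain ⟨t, hli, ht, hsp⟩ := ih
      obtain ⟨t', ht', htt, hsp', hli'⟩ :=
        exists_linearIndepOn_id_extension hli (ht.trans (hV (by omega : N - (i + 1) ≤ N - i)))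
      refine ⟨t', hli', ht', fun j h1 h2 => ?_⟩
      by_cases hj : N - i ≤ j
      · exact (hsp j hj h2).trans (SetLike.coe_subset_coe.2 (Submodule.span_mono (Set.inter_subset_inter_left _ htt)))
      · obtain rfl : j = N - (i + 1) := by omega
        rwa [Set.inter_eq_left.2 ht']
  obtain ⟨t, hli, ht, hsp⟩ := hex N
  rw [Nat.sub_self] at ht hsp
  let X : Set (k ⊗[R] G) := hli.extend (Set.subset_univ t)
  let b : Module.Basis X k (k ⊗[R] G) := Module.Basis.extend hli
  have htX : t ⊆ X := hli.subset_extend _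
  have hlift : ∀ x : X, ∃ y : G, μ y = x ∧ ((x : k ⊗[R] G) ∈ t → ∀ j ≤ N, (x : k ⊗[R] G) ∈ V j → y ∈ S j) := by
    intro x
    by_cases hx : (x : k ⊗[R] G) ∈ t
    · let j0 := Nat.findGreatest (fun j => (x : k ⊗[R] G) ∈ V j) N
      obtain ⟨y, hy, hyx⟩ : (x : k ⊗[R] G) ∈ V j0 :=
        Nat.findGreatest_spec (P := fun j => (x : k ⊗[R] G) ∈ V j) (Nat.zero_le N) (ht hx)
      exact ⟨y, hyx, fun _ j hj hxj => hS (Nat.le_findGreatest hj hxj) hy⟩
    · obtain ⟨y, hy⟩ := hμ x
      exact ⟨y, hy, fun h => absurd h hx⟩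
  choose l hl hlS using hlift
  have hli2 : LinearIndependent R l := Module.IsLocalRing.linearIndependent_of_flat l (by
    show LinearIndependent k (μ ∘ l)
    have : μ ∘ l = b := funext fun x => by
      rw [Function.comp_apply, hl, Module.Basis.extend_apply_self]
    rw [this]
    exact b.linearIndependent)
  have hspan : Submodule.span R (Set.range l) = ⊤ := by
    refine ArtFree.eq_top_of_sup_smul_eq_top ⟨N + 1, by rw [hN, Ideal.zero_eq_bot]⟩ (eq_top_iff.2 fun y _ => ?_)
    have hy : μ y ∈ (Submodule.span R (Set.range b) : Submodule R (k ⊗[R] G)) := by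
      rw [← Submodule.restrictScalars_span R k IsLocalRing.residue_surjective, b.span_eq]
      trivial
    rw [show Set.range b = μ '' Set.range l by
      rw [← Set.range_comp]
      exact congrArg Set.range (funext fun x => by rw [Function.comp_apply, hl, Module.Basis.extend_apply_self]),
      ← Submodule.map_span] at hy
    obtain ⟨z, hz, hzy⟩ := hy
    rw [← add_sub_cancel z y]
    refine Submodule.add_mem_sup hz ?_
    rw [← hμker, LinearMap.mem_ker, map_sub, sub_eq_zero]
    exact hzy.symm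
  let β : Module.Basis X R G := Module.Basis.mk hli2 hspan.ge
  choose pre hpre using hf
  let h : G →ₗ[R] P := β.constr R fun x => if (x : k ⊗[R] G) ∈ t then 0 else pre (g (l x))
  have hhl : ∀ x, h (l x) = if (x : k ⊗[R] G) ∈ t then 0 else pre (g (l x)) := fun x => by
    have h1 := β.constr_basis R (fun x => if (x : k ⊗[R] G) ∈ t then 0 else pre (g (l x))) x
    rw [show β x = l x from Module.Basis.mk_apply hli2 hspan.ge x] at h1
    exact h1
  refine ⟨h, β.ext fun x => ?_, ?_⟩
  · simp only [β, Module.Basis.mk_apply, LinearMap.comp_apply, hhl]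
    split_ifs with hx
    · rw [map_zero]
      exact (LinearMap.mem_ker.1 (hg (hlS x hx 0 (Nat.zero_le N) (ht hx)))).symm
    · exact hpre _
  let U : Submodule R G := Submodule.span R (l '' {x | (x : k ⊗[R] G) ∈ t})
  have hU : U ≤ LinearMap.ker h := by
    rw [Submodule.span_le]
    rintro _ ⟨x, hx, rfl⟩
    rw [SetLike.mem_coe, LinearMap.mem_ker, hhl, if_pos (show (x : k ⊗[R] G) ∈ t from hx)]
  have hstep : ∀ j ≤ N, ∀ x ∈ S j, ∃ u ∈ U ⊓ S j, x - u ∈ maximalIdeal R • (⊤ : Submodule R G) := by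
    intro j hj x hx
    have hx' : μ x ∈ (Submodule.span R (t ∩ V j) : Submodule R (k ⊗[R] G)) := by
      rw [← Submodule.restrictScalars_span R k IsLocalRing.residue_surjective]
      exact hsp j (Nat.zero_le j) hj ⟨x, hx, rfl⟩
    have hsub : t ∩ V j ⊆ μ '' ((U ⊓ S j : Submodule R G) : Set G) := fun z hz =>
      ⟨l ⟨z, htX hz.1⟩, ⟨Submodule.subset_span ⟨⟨z, htX hz.1⟩, hz.1, rfl⟩,
        hlS ⟨z, htX hz.1⟩ hz.1 j hj hz.2⟩, hl ⟨z, htX hz.1⟩⟩
    have := Submodule.span_mono hsub hx'
    rw [← Submodule.map_span, Submodule.span_eq] at this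
    obtain ⟨u, hu, hux⟩ := this
    refine ⟨u, hu, ?_⟩
    rw [← hμker, LinearMap.mem_ker, map_sub, hux, sub_self]
  have hind : ∀ j ≤ N, S j ≤ U ⊔ maximalIdeal R ^ (j + 1) • ⊤ := by
    intro j
    induction j with
    | zero =>
      intro h0 x hx
      obtain ⟨u, hu, hxu⟩ := hstep 0 h0 x hx
      rw [← add_sub_cancel u x, zero_add, pow_one]
      exact Submodule.add_mem_sup hu.1 hxu
    | succ j ih =>
      intro hj x hx
      obtain ⟨u, hu, hxu⟩ := hstep (j + 1) hj x hx
      have h1 : x - u ∈ maximalIdeal R • S j := hAR j ⟨sub_mem hx hu.2, hxu⟩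
      have h2 : maximalIdeal R • S j ≤ U ⊔ maximalIdeal R ^ (j + 1 + 1) • ⊤ := by
        refine (Submodule.smul_mono le_rfl (ih (by omega))).trans ?_
        rw [Submodule.smul_sup, ← Submodule.mul_smul, ← pow_succ']
        exact sup_le_sup_right Submodule.smul_le_right _
      rw [← add_sub_cancel u x]
      exact add_mem (Submodule.mem_sup_left hu.1) (h2 h1)
  refine (hind N le_rfl).trans ?_
  rw [hN, Submodule.bot_smul, sup_bot_eq]
  exact hU

variable {A B : Type u} [CommRing A] [IsLocalRing A] [CommRing B] [IsNoetherianRing B] [Algebra A B]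

/-- A flat algebra over a local ring is formally projective for the adic topologies. -/
theorem exists_continuous_lift [Module.Flat A B] (𝔟 : Ideal B) (n : ℕ) (P Q : Type u)
    [AddCommGroup P] [Module A P] [AddCommGroup Q] [Module A Q]
    (hP : ∀ a ∈ maximalIdeal A ^ n, ∀ y : P, a • y = 0) (hQ : ∀ a ∈ maximalIdeal A ^ n, ∀ y : Q, a • y = 0)
    (f : P →ₗ[A] Q) (hf : Function.Surjective f) (v : B →ₗ[A] Q) (hv : ∃ m : ℕ, ∀ x ∈ 𝔟 ^ m, v x = 0) :
    ∃ w : B →ₗ[A] P, (∃ m : ℕ, ∀ x ∈ 𝔟 ^ m, w x = 0) ∧ f ∘ₗ w = v := by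
  classical
  obtain ⟨m, hm⟩ := hv
  let I := maximalIdeal A ^ (n + 1)
  let R := A ⧸ I
  let J : Ideal B := I.map (algebraMap A B)
  haveI : Nontrivial R := Ideal.Quotient.nontrivial_iff.2
    (ne_top_of_le_ne_top (maximalIdeal.isMaximal A).ne_top (Ideal.pow_le_self (Nat.succ_ne_zero _)))
  haveI : IsLocalRing R := IsLocalRing.of_surjective' _ Ideal.Quotient.mk_surjective
  have hmax : maximalIdeal R = (maximalIdeal A).map (Ideal.Quotient.mk I) :=
    (IsLocalRing.eq_maximalIdeal (Ideal.IsMaximal.map_of_surjective_of_ker_le Ideal.Quotient.mk_surjective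
      (by rw [Ideal.mk_ker]; exact Ideal.pow_le_self (Nat.succ_ne_zero _)))).symm
  have hN : maximalIdeal R ^ (n + 1) = ⊥ := by
    rw [hmax, ← Ideal.map_pow]
    exact Ideal.map_quotient_self I
  have hle : I ≤ maximalIdeal A ^ n := Ideal.pow_le_pow_right (Nat.le_succ n)
  letI : Module R P := Module.IsTorsionBySet.module (M := P) (I := I) fun y a => hP a.1 (hle a.2) y
  letI : Module R Q := Module.IsTorsionBySet.module (M := Q) (I := I) fun y a => hQ a.1 (hle a.2) y
  haveI : IsScalarTower A R P := IsScalarTower.of_algebraMap_smul fun _ _ => rfl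
  haveI : IsScalarTower A R Q := IsScalarTower.of_algebraMap_smul fun _ _ => rfl
  haveI : Module.Flat R (B ⧸ J) := SmoothingLib.flat_quotient I
  let mG : Ideal (B ⧸ J) := (maximalIdeal R).map (algebraMap R (B ⧸ J))
  let bG : Ideal (B ⧸ J) := 𝔟.map (Ideal.Quotient.mk J)
  obtain ⟨c, hc⟩ := Ideal.exists_pow_inf_eq_pow_smul bG (mG : Submodule (B ⧸ J) (B ⧸ J))
  let S : ℕ → Submodule R (B ⧸ J) := fun j => (bG ^ (m + j * (c + 1))).restrictScalars R
  have hS : Antitone S := fun i j hij =>
    fun _ hx => Ideal.pow_le_pow_right (Nat.add_le_add_left (Nat.mul_le_mul_right _ hij) _) hx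
  have hAR : ∀ j, S (j + 1) ⊓ maximalIdeal R • ⊤ ≤ maximalIdeal R • S j := by
    intro j x hx
    obtain ⟨hx1, hx2⟩ := hx
    have hx3 : x ∈ mG := by
      rw [Ideal.smul_top_eq_map] at hx2
      exact hx2
    have hx4 : x ∈ bG ^ (m + (j + 1) * (c + 1)) • ⊤ ⊓ (mG : Submodule (B ⧸ J) (B ⧸ J)) :=
      ⟨by rw [smul_eq_mul, Ideal.mul_top]; exact hx1, hx3⟩
    rw [hc _ (by rw [Nat.succ_mul]; omega)] at hx4
    have hx5 : x ∈ bG ^ (m + j * (c + 1)) * mG := by
      refine Submodule.smul_mono (Ideal.pow_le_pow_right ?_) inf_le_right hx4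
      rw [Nat.succ_mul]; omega
    rw [mul_comm] at hx5
    refine Submodule.mul_induction_on hx5 (fun a ha s hs => ?_) (fun a b ha hb => add_mem ha hb)
    induction ha using Submodule.span_induction generalizing s with
    | mem a ha =>
      obtain ⟨r, hr, rfl⟩ := ha
      rw [← Algebra.smul_def]
      exact Submodule.smul_mem_smul hr hs
    | zero => rw [zero_mul]; exact zero_mem _
    | add a b _ _ h1 h2 => rw [add_mul]; exact add_mem (h1 s hs) (h2 s hs)
    | smul z a _ h1 =>
      rw [smul_eq_mul, mul_comm z a, mul_assoc]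
      exact h1 _ (Ideal.mul_mem_left _ z hs)
  let g₀ : (B ⧸ J) →ₗ[A] Q := (J.restrictScalars A).liftQ v fun x hx => by
    rw [Submodule.restrictScalars_mem] at hx
    have hx' : x ∈ (I • ⊤ : Submodule A B) := by rw [Ideal.smul_top_eq_map]; exact hx
    refine Submodule.smul_induction_on hx' (fun a ha b _ => ?_) (fun a b ha hb => add_mem ha hb)
    rw [LinearMap.mem_ker, map_smul, hQ a (hle ha)]
  let g : (B ⧸ J) →ₗ[R] Q := LinearMap.extendScalarsOfSurjective Ideal.Quotient.mk_surjective g₀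
  obtain ⟨h, hh, hhS⟩ := exists_lift_filtered hN S hS hAR
    (LinearMap.extendScalarsOfSurjective Ideal.Quotient.mk_surjective f) hf g fun x hx => by
      have hx' : x ∈ bG ^ m := by simpa [S] using hx
      rw [← Ideal.map_pow] at hx'
      obtain ⟨y, hy, rfl⟩ := (Ideal.mem_map_iff_of_surjective _ Ideal.Quotient.mk_surjective).1 hx'
      exact LinearMap.mem_ker.2 (hm y hy)
  refine ⟨h.restrictScalars A ∘ₗ (Ideal.Quotient.mkₐ A J).toLinearMap,
    ⟨m + n * (c + 1), fun x hx => ?_⟩, LinearMap.ext fun x => ?_⟩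
  · have : Ideal.Quotient.mk J x ∈ S n := by
      show Ideal.Quotient.mk J x ∈ bG ^ (m + n * (c + 1))
      rw [← Ideal.map_pow]
      exact Ideal.mem_map_of_mem _ hx
    exact LinearMap.mem_ker.1 (hhS this)
  · exact LinearMap.congr_fun hh (Ideal.Quotient.mk J x)

/-- A flat algebra over a local ring with adically formally smooth closed fibre. -/
theorem isAdicFormallySmooth_of_flat [IsLocalRing B] [IsLocalHom (algebraMap A B)] [Module.Flat A B]
    (h : CAlgX.IsAdicFormallySmooth (A ⧸ maximalIdeal A) (B ⧸ (maximalIdeal A).map (algebraMap A B))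
      ((maximalIdeal B).map (Ideal.Quotient.mk ((maximalIdeal A).map (algebraMap A B))))) :
    CAlgX.IsAdicFormallySmooth A B (maximalIdeal B) := by
  have hfs : EGA41.IsFormallySmoothAdic A (maximalIdeal A) B (maximalIdeal B) :=
    FSmoothAdicLib.isFormallySmoothAdic_of_quotient _ _ (SymGrLib.isFormallySmoothAdic_bot h)
      fun n P Q _ _ _ _ hP hQ f hf v hv => exists_continuous_lift (maximalIdeal B) n P Q hP hQ f hf v hv
  intro C _ _ J hJ ψ ⟨n, hn⟩
  refine hfs C J ⟨2, by rw [hJ, Ideal.zero_eq_bot]⟩ ⟨n + n, ?_⟩ ψ ⟨n, hn⟩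
  rw [eq_bot_iff, ← hJ, pow_add, Ideal.map_mul, pow_two]
  have hle : (maximalIdeal A ^ n).map (algebraMap A C) ≤ J := Ideal.map_le_iff_le_comap.2 fun a ha => by
    refine (Ideal.Quotient.eq_zero_iff_mem (I := J)).1 ((ψ.commutes a).symm.trans (hn _ ?_))
    refine Ideal.pow_right_mono (IsLocalRing.map_maximalIdeal_le (algebraMap A B)) n ?_
    rw [← Ideal.map_pow]
    exact Ideal.mem_map_of_mem _ ha
  exact Ideal.mul_mono hle hle

end Groth.Agent.AdicFS
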