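import Mathlib
import Groth.Prelude.Def_CAlgX
import Groth.Prelude.Def_Found
import Groth.Agent.CohenPresLib.Basic
import Groth.Agent.AdicFS.FlatLift
import Groth.Agent.S2461
import Groth.Agent.S4573
import Groth.Agent.SymGrLib.GeomRegular
import Groth.Agent.RegLocal.Completion
import Groth.Agent.AdicLemmas.Basic
import Groth.Agent.FiniteCompleteLib.Basic
import Groth.Agent.EtLocalLib.Completion

/-!
Adic formal smoothness of local homomorphisms: flatness and the closed fibre.
-/

set_option autoImplicit false
set_option linter.style.haveILetI false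
universe u

open IsLocalRing TensorProduct

namespace Groth.Agent.AdicFS

variable {A B : Type u} [CommRing A] [IsLocalRing A] [CommRing B] [IsLocalRing B] [Algebra A B]
  [IsLocalHom (algebraMap A B)]

theorem fibre_includeRight_surjective (A B : Type u) [CommRing A] [IsLocalRing A] [CommRing B] [Algebra A B] :
    Function.Surjective (Algebra.TensorProduct.includeRight : B →ₐ[A] (maximalIdeal A).Fiber B) := by
  have hs : Function.Surjective (algebraMap A (maximalIdeal A).ResidueField) :=
    Ideal.algebraMap_residueField_surjective (maximalIdeal A)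
  intro z
  induction z using TensorProduct.induction_on with
  | zero => exact ⟨0, map_zero _⟩
  | tmul x b =>
    obtain ⟨a, rfl⟩ := hs x
    refine ⟨a • b, ?_⟩
    rw [Algebra.TensorProduct.includeRight_apply, TensorProduct.tmul_smul, TensorProduct.smul_tmul',
      Algebra.smul_def, mul_one]
  | add x y hx hy =>
    obtain ⟨b, rfl⟩ := hx
    obtain ⟨c, rfl⟩ := hy
    exact ⟨b + c, map_add _ b c⟩

theorem fibre_nontrivial : Nontrivial ((maximalIdeal A).Fiber B) := by
  letI : Algebra (maximalIdeal A).ResidueField (ResidueField B) :=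
    (Ideal.ResidueField.lift (maximalIdeal A) (algebraMap A (ResidueField B))
      (fun a ha => (residue_eq_zero_iff (algebraMap A B a)).2 (map_nonunit (algebraMap A B) a ha))
      (fun a ha => ((notMem_maximalIdeal.1 ha).map (algebraMap A (ResidueField B))))).toAlgebra
  haveI : IsScalarTower A (maximalIdeal A).ResidueField (ResidueField B) :=
    IsScalarTower.of_algebraMap_eq fun a => by
      rw [RingHom.algebraMap_toAlgebra, Ideal.ResidueField.lift_algebraMap]
  exact RingHom.domain_nontrivial
    (Algebra.TensorProduct.lift (Algebra.ofId (maximalIdeal A).ResidueField (ResidueField B))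
      (IsScalarTower.toAlgHom A B (ResidueField B)) fun _ _ => Commute.all _ _).toRingHom

theorem fibre_isLocalRing : IsLocalRing ((maximalIdeal A).Fiber B) :=
  haveI := fibre_nontrivial (A := A) (B := B)
  IsLocalRing.of_surjective' (Algebra.TensorProduct.includeRight : B →ₐ[A] (maximalIdeal A).Fiber B).toRingHom
    (fibre_includeRight_surjective A B)

theorem fibre_maximalIdeal [IsLocalRing ((maximalIdeal A).Fiber B)] :
    maximalIdeal ((maximalIdeal A).Fiber B) = (maximalIdeal B).map
      (Algebra.TensorProduct.includeRight : B →ₐ[A] (maximalIdeal A).Fiber B).toRingHom := by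
  haveI := IsLocalHom.of_surjective
    (Algebra.TensorProduct.includeRight : B →ₐ[A] (maximalIdeal A).Fiber B).toRingHom
    (fibre_includeRight_surjective A B)
  refine le_antisymm (fun z hz => ?_) (IsLocalRing.map_maximalIdeal_le _)
  obtain ⟨b, rfl⟩ := fibre_includeRight_surjective A B z
  refine Ideal.mem_map_of_mem
    (Algebra.TensorProduct.includeRight : B →ₐ[A] (maximalIdeal A).Fiber B).toRingHom ?_
  exact fun hu => hz (hu.map _)

variable [IsNoetherianRing B]

theorem fibre_adic_of_adic (h : CAlgX.IsAdicFormallySmooth A B (maximalIdeal B))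
    [IsLocalRing ((maximalIdeal A).Fiber B)] :
    CAlgX.IsAdicFormallySmooth (maximalIdeal A).ResidueField ((maximalIdeal A).Fiber B)
      (maximalIdeal ((maximalIdeal A).Fiber B)) := by
  intro T _ _ J hJ ψ ⟨n, hn⟩
  letI : Algebra A T := Algebra.compHom T (algebraMap A (maximalIdeal A).ResidueField)
  haveI : IsScalarTower A (maximalIdeal A).ResidueField T := IsScalarTower.of_algebraMap_eq fun _ => rfl
  let ι : B →ₐ[A] (maximalIdeal A).Fiber B := Algebra.TensorProduct.includeRight
  obtain ⟨χ, hχ⟩ := h T J hJ ((ψ.restrictScalars A).comp ι) ⟨n, fun x hx => hn _ (by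
    rw [fibre_maximalIdeal (A := A) (B := B), ← Ideal.map_pow]
    exact Ideal.mem_map_of_mem ι.toRingHom hx)⟩
  refine ⟨Algebra.TensorProduct.lift (Algebra.ofId (maximalIdeal A).ResidueField T) χ
    (fun _ _ => Commute.all _ _), AlgHom.ext fun z => ?_⟩
  obtain ⟨b, rfl⟩ := fibre_includeRight_surjective A B z
  rw [AlgHom.comp_apply, Algebra.TensorProduct.includeRight_apply, Algebra.TensorProduct.lift_tmul,
    map_one, one_mul]
  exact AlgHom.congr_fun hχ b

theorem fibre_geometricallyRegular_of_adic (h : CAlgX.IsAdicFormallySmooth A B (maximalIdeal B)) :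
    CAlg.IsGeometricallyRegular (maximalIdeal A).ResidueField ((maximalIdeal A).Fiber B) := by
  haveI := fibre_isLocalRing (A := A) (B := B)
  haveI : IsNoetherianRing ((maximalIdeal A).Fiber B) :=
    isNoetherianRing_of_surjective _ _
      (Algebra.TensorProduct.includeRight : B →ₐ[A] (maximalIdeal A).Fiber B).toRingHom
      (fibre_includeRight_surjective A B)
  exact SymGrLib.isGeometricallyRegular_of_isAdicFormallySmooth (fibre_adic_of_adic h)

theorem adic_of_fibre [Module.Flat A B]
    (h : CAlg.IsGeometricallyRegular (maximalIdeal A).ResidueField ((maximalIdeal A).Fiber B)) :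
    CAlgX.IsAdicFormallySmooth A B (maximalIdeal B) := by
  haveI := fibre_isLocalRing (A := A) (B := B)
  let ι : B →ₐ[A] (maximalIdeal A).Fiber B := Algebra.TensorProduct.includeRight
  haveI : IsNoetherianRing ((maximalIdeal A).Fiber B) :=
    isNoetherianRing_of_surjective _ _ ι.toRingHom (fibre_includeRight_surjective A B)
  obtain ⟨p, hp⟩ := ExpChar.exists (maximalIdeal A).ResidueField
  have hfib : CAlgX.IsAdicFormallySmooth (maximalIdeal A).ResidueField ((maximalIdeal A).Fiber B)
      (maximalIdeal ((maximalIdeal A).Fiber B)) := (S4573.result p).2 fun k' _ _ hk' _ => h k' hk'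
  refine isAdicFormallySmooth_of_flat fun T _ _ J hJ ψ ⟨n, hn⟩ => ?_
  let e := RingEquiv.ofBijective _ (Ideal.bijective_algebraMap_quotient_residueField (maximalIdeal A))
  letI : Algebra (maximalIdeal A).ResidueField T :=
    ((algebraMap (A ⧸ maximalIdeal A) T).comp e.symm.toRingHom).toAlgebra
  letI : Algebra A T := Algebra.compHom T (algebraMap A (A ⧸ maximalIdeal A))
  haveI : IsScalarTower A (A ⧸ maximalIdeal A) T := IsScalarTower.of_algebraMap_eq fun _ => rfl
  haveI : IsScalarTower A (maximalIdeal A).ResidueField T := IsScalarTower.of_algebraMap_eq fun a => by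
    show algebraMap (A ⧸ maximalIdeal A) T (Ideal.Quotient.mk _ a) =
      algebraMap (A ⧸ maximalIdeal A) T (e.symm (algebraMap A _ a))
    congr 1
    rw [eq_comm, RingEquiv.symm_apply_eq]
    exact IsScalarTower.algebraMap_apply A (A ⧸ maximalIdeal A) (maximalIdeal A).ResidueField a
  let ψ' : B →ₐ[A] T ⧸ J := (ψ.restrictScalars A).comp (Ideal.Quotient.mkₐ A _)
  let ψF : (maximalIdeal A).Fiber B →ₐ[(maximalIdeal A).ResidueField] T ⧸ J :=
    Algebra.TensorProduct.lift (Algebra.ofId (maximalIdeal A).ResidueField (T ⧸ J)) ψ' fun _ _ => Commute.all _ _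
  have hψF : ∀ b, ψF (ι b) = ψ' b := fun b => by
    simp [ψF, ι]
  obtain ⟨χ, hχ⟩ := hfib T J hJ ψF ⟨n, fun z hz => by
    rw [fibre_maximalIdeal (A := A) (B := B), ← Ideal.map_pow] at hz
    obtain ⟨b, hb, rfl⟩ := (Ideal.mem_map_iff_of_surjective _ (fibre_includeRight_surjective A B)).1 hz
    refine (hψF b).trans (hn _ ?_)
    rw [← Ideal.map_pow]
    exact Ideal.mem_map_of_mem _ hb⟩
  let χ' : B →ₐ[A] T := (χ.restrictScalars A).comp ι
  have hkill : ∀ x ∈ (maximalIdeal A).map (algebraMap A B), χ' x = 0 := fun x hx => by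
    refine (Ideal.map_le_iff_le_comap.2 (fun a ha => ?_) :
      (maximalIdeal A).map (algebraMap A B) ≤ RingHom.ker χ'.toRingHom) hx
    show χ' (algebraMap A B a) = 0
    rw [AlgHom.commutes, IsScalarTower.algebraMap_apply A (A ⧸ maximalIdeal A) T,
      show algebraMap A (A ⧸ maximalIdeal A) a = 0 from Ideal.Quotient.eq_zero_iff_mem.2 ha, map_zero]
  refine ⟨{ (Ideal.Quotient.liftₐ _ χ' hkill).toRingHom with
      commutes' := fun r => by
        obtain ⟨a, rfl⟩ := Ideal.Quotient.mk_surjective r
        exact χ'.commutes a }, AlgHom.ext fun z => ?_⟩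
  obtain ⟨b, rfl⟩ := Ideal.Quotient.mk_surjective z
  exact (AlgHom.congr_fun hχ (ι b)).trans (hψF b)

/-- A formally smooth local algebra which is a quotient of a flat complete local algebra is flat. -/
theorem flat_of_surjective {A C D : Type u} [CommRing A] [CommRing C] [IsLocalRing C] [IsNoetherianRing C]
    [IsAdicComplete (maximalIdeal C) C] [CommRing D] [IsLocalRing D] [Algebra A C] [Algebra A D]
    [Module.Flat A C] (hD : EGA41.IsFormallySmoothAdic A ⊥ D (maximalIdeal D)) (π : C →ₐ[A] D)
    (hπ : Function.Surjective π) : Module.Flat A D := by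
  let ε : (C ⧸ RingHom.ker π) ≃ₐ[A] D := Ideal.quotientKerAlgEquivOfSurjective hπ
  have hle : RingHom.ker π ≤ maximalIdeal C := le_maximalIdeal (RingHom.ker_ne_top π.toRingHom)
  haveI : Nontrivial (C ⧸ RingHom.ker π) := Ideal.Quotient.nontrivial_iff.2 (RingHom.ker_ne_top π.toRingHom)
  haveI : IsLocalRing (C ⧸ RingHom.ker π) := .of_surjective' _ Ideal.Quotient.mk_surjective
  have hmQ : (maximalIdeal C).map (Ideal.Quotient.mk (RingHom.ker π)) = maximalIdeal (C ⧸ RingHom.ker π) := by
    refine eq_maximalIdeal (Ideal.IsMaximal.map_of_surjective_of_ker_le Ideal.Quotient.mk_surjective ?_)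
    rw [Ideal.mk_ker]
    exact hle
  haveI : IsHausdorff ((maximalIdeal C).map (Ideal.Quotient.mk (RingHom.ker π))) (C ⧸ RingHom.ker π) := by
    rw [hmQ]; infer_instance
  obtain ⟨g, -, hg⟩ := FSmoothAdicLib.exists_lift_complete ⊥ (maximalIdeal D) (maximalIdeal C) hD
    ⟨1, by rw [pow_one, Ideal.map_bot]; exact bot_le⟩ (RingHom.ker π)
    ⟨1, by rw [pow_one]; exact hle⟩ ε.symm.toAlgHom
    ⟨1, by
      rw [pow_one, hmQ, Ideal.map_le_iff_le_comap]
      intro x hx
      exact fun hu => hx (by simpa using hu.map ε)⟩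
  have hret : π.toLinearMap ∘ₗ g.toLinearMap = LinearMap.id := LinearMap.ext fun x => by
    have h1 := congrArg ε (AlgHom.congr_fun hg x)
    exact h1.trans (ε.apply_symm_apply x)
  exact Module.Flat.of_retract g.toLinearMap π.toLinearMap hret

variable [IsNoetherianRing A]

/-- An adically formally smooth local homomorphism of Noetherian local rings is flat. -/
theorem flat_of_adic (h : CAlgX.IsAdicFormallySmooth A B (maximalIdeal B)) : Module.Flat A B := by
  classical
  let Ah := AdicCompletion (maximalIdeal A) A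
  let Bh := AdicCompletion (maximalIdeal B) B
  have hA : (maximalIdeal A) ≠ ⊤ := (maximalIdeal.isMaximal A).ne_top
  have hB : (maximalIdeal B) ≠ ⊤ := (maximalIdeal.isMaximal B).ne_top
  haveI : IsLocalRing Ah := RegLocal.isLocalRing_completion A _ hA
  haveI : IsLocalRing Bh := RegLocal.isLocalRing_completion B _ hB
  have hmA := RegLocal.maximalIdeal_completion A _ hA
  have hmB := RegLocal.maximalIdeal_completion B _ hB
  haveI : IsAdicComplete (maximalIdeal Ah) Ah := by
    rw [hmA]; exact AdicCompletion.isAdicComplete_self _ (maximalIdeal A).fg_of_isNoetherianRing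
  haveI : IsAdicComplete (maximalIdeal Bh) Bh := by
    rw [hmB]; exact AdicCompletion.isAdicComplete_self _ (maximalIdeal B).fg_of_isNoetherianRing
  haveI : Module.FaithfullyFlat B Bh := RegLocal.faithfullyFlat_completion B _ hB
  haveI : Module.Flat A Ah := by
    haveI := RegLocal.faithfullyFlat_completion A _ hA
    infer_instance
  haveI : IsAdicComplete ((maximalIdeal B).map (algebraMap B Bh)) Bh :=
    AdicCompletion.isAdicComplete_self _ (maximalIdeal B).fg_of_isNoetherianRing
  obtain ⟨φ, hφ⟩ := AdicRingLib.exists_algHom_completion (R := A) (maximalIdeal A)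
    ((maximalIdeal B).map (algebraMap B Bh)) (Algebra.ofId A Bh) (by
      rw [Ideal.map_le_iff_le_comap]
      intro a ha
      show algebraMap A Bh a ∈ (maximalIdeal B).map (algebraMap B Bh)
      rw [IsScalarTower.algebraMap_apply A B Bh]
      exact Ideal.mem_map_of_mem _ (map_nonunit (algebraMap A B) a ha))
  letI : Algebra Ah Bh := φ.toRingHom.toAlgebra
  haveI : IsScalarTower A Ah Bh := IsScalarTower.of_algebraMap_eq fun a => (φ.commutes a).symm
  haveI : IsLocalHom (algebraMap Ah Bh) := by
    refine ((IsLocalRing.local_hom_TFAE (algebraMap Ah Bh)).out 0 2 rfl rfl).mpr ?_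
    rw [hmA, Ideal.map_map, ← IsScalarTower.algebraMap_eq, IsScalarTower.algebraMap_eq A B Bh,
      ← Ideal.map_map, hmB]
    exact Ideal.map_mono (IsLocalRing.map_maximalIdeal_le _)
  obtain ⟨Λ, Λ', _, _, _, n, m, ρ, σ, τ, hcases, hρ, hσ, hcomm, hτ, -⟩ :=
    CohenPresLib.exists_presentation (A := Ah) (B := Bh)
  haveI : IsLocalRing Λ' := by
    rcases hcases with ⟨-, -, hf⟩ | ⟨-, -, ⟨_, hdvr, -⟩⟩
    · letI := hf.toField; infer_instance
    · infer_instance
  haveI : IsNoetherianRing Λ' := by
    rcases hcases with ⟨-, -, hf⟩ | ⟨-, -, ⟨_, hdvr, -⟩⟩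
    · letI := hf.toField; infer_instance
    · infer_instance
  haveI : IsAdicComplete (maximalIdeal Λ') Λ' := by
    rcases hcases with ⟨-, -, hf⟩ | ⟨-, -, ⟨_, _, hc, -⟩⟩
    · rw [isField_iff_maximalIdeal_eq.1 hf]; infer_instance
    · exact hc
  let R := MvPowerSeries (Fin n) Λ
  let S := MvPowerSeries (Fin m) Λ'
  haveI : IsAdicComplete (maximalIdeal S) S := by
    obtain ⟨-, -, -, hc⟩ := ArtFunLib.exists_psCRing (k := ResidueField Λ') (Λ := Λ')
      IsLocalRing.residue_surjective m
    exact hc
  letI : Algebra R S := τ.toAlgebra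
  haveI : Module.Flat R S := RingHom.flat_algebraMap_iff.mp hτ
  let K : Ideal R := RingHom.ker ρ
  haveI : Module.Flat (R ⧸ K) (S ⧸ K.map (algebraMap R S)) := SmoothingLib.flat_quotient K
  let C := S ⧸ K.map (algebraMap R S)
  have hKσ : K.map (algebraMap R S) ≤ RingHom.ker σ := Ideal.map_le_iff_le_comap.2 fun r hr => by
    show σ (τ r) = 0
    rw [← RingHom.comp_apply σ τ, hcomm, RingHom.comp_apply, RingHom.mem_ker.1 hr, map_zero]
  let σb : C →+* Bh := Ideal.Quotient.lift _ σ hKσ
  have hσb : Function.Surjective σb := fun y => by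
    obtain ⟨s, rfl⟩ := hσ y
    exact ⟨Ideal.Quotient.mk _ s, rfl⟩
  haveI : Nontrivial C := σb.domain_nontrivial
  haveI : IsLocalRing C := .of_surjective' _ Ideal.Quotient.mk_surjective
  have hmC : (maximalIdeal S).map (Ideal.Quotient.mk (K.map (algebraMap R S))) = maximalIdeal C := by
    refine eq_maximalIdeal (Ideal.IsMaximal.map_of_surjective_of_ker_le Ideal.Quotient.mk_surjective ?_)
    rw [Ideal.mk_ker]
    exact le_maximalIdeal (Ideal.Quotient.nontrivial_iff.1 ‹Nontrivial C›)
  haveI : IsAdicComplete (maximalIdeal C) C := by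
    rw [← hmC]
    exact (IsAdicComplete.map_algebraMap_iff (maximalIdeal S) C).2
      (FiniteCompleteLib.isAdicComplete_of_finite (maximalIdeal S) C)
  let e : (R ⧸ K) ≃+* Ah := RingHom.quotientKerEquivOfSurjective hρ
  letI : Algebra Ah C := ((algebraMap (R ⧸ K) C).comp e.symm.toRingHom).toAlgebra
  haveI : Module.Flat Ah C :=
    RingHom.flat_algebraMap_iff.mp (RingHom.Flat.comp (f := e.symm.toRingHom) (g := algebraMap (R ⧸ K) C)
      (RingHom.Flat.of_bijective e.symm.bijective) (RingHom.flat_algebraMap_iff.mpr inferInstance))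
  letI : Algebra A C := Algebra.compHom C (algebraMap A Ah)
  haveI : IsScalarTower A Ah C := IsScalarTower.of_algebraMap_eq fun _ => rfl
  haveI : Module.Flat A C := Module.Flat.trans A Ah C
  have hσA : ∀ x : Ah, σb (algebraMap Ah C x) = algebraMap Ah Bh x := fun x => by
    obtain ⟨r, hr⟩ := Ideal.Quotient.mk_surjective (e.symm x)
    show σb (algebraMap (R ⧸ K) C (e.symm x)) = _
    rw [← hr]
    show σ (τ r) = _
    rw [← RingHom.comp_apply σ τ, hcomm, RingHom.comp_apply]
    congr 1
    have := congrArg e hr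
    rw [e.apply_symm_apply] at this
    exact this
  let π : C →ₐ[A] Bh :=
    { σb with
      commutes' := fun a => by
        show σb (algebraMap Ah C (algebraMap A Ah a)) = _
        rw [hσA, ← IsScalarTower.algebraMap_apply] }
  have hBh : EGA41.IsFormallySmoothAdic A ⊥ Bh (maximalIdeal Bh) := by
    rw [hmB]
    exact (S2461.result ⊥ (maximalIdeal B)).1 (SymGrLib.isFormallySmoothAdic_bot h)
  haveI : Module.Flat A Bh := flat_of_surjective hBh π hσb
  exact EtLocalLib.flat_of_flat_of_faithfullyFlat A B Bh

end Groth.Agent.AdicFS
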