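import Groth.Prelude.Def_CAlgX
import Mathlib

set_option autoImplicit false
universe u

namespace Groth.Agent.AdicFS

open MvPolynomial

variable (A B : Type u) [CommRing A] [CommRing B] [IsLocalRing B] [Algebra A B]

/-- If `A → B` is adically formally smooth, an element of the kernel of `A[K] → K` whose image in
`B[K]` lies in the square of the kernel of `B[K] → K` lies in the square of its own kernel. -/
theorem mem_ker_sq_of_map (hfs : CAlgX.IsAdicFormallySmooth A B (IsLocalRing.maximalIdeal B))
    (x : MvPolynomial (IsLocalRing.ResidueField B) A)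
    (hx : x ∈ (Algebra.Generators.self A (IsLocalRing.ResidueField B)).toExtension.ker)
    (h : (Algebra.Generators.defaultHom (Algebra.Generators.self A (IsLocalRing.ResidueField B))
        (Algebra.Generators.self B (IsLocalRing.ResidueField B))).toAlgHom x ∈
      (Algebra.Generators.self B (IsLocalRing.ResidueField B)).toExtension.ker ^ 2) :
    x ∈ (Algebra.Generators.self A (IsLocalRing.ResidueField B)).toExtension.ker ^ 2 := by
  classical
  let K := IsLocalRing.ResidueField B
  let ev : MvPolynomial K A →ₐ[A] K := aeval (fun k : K => k)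
  have hev : Function.Surjective ev := fun k => ⟨X k, aeval_X _ _⟩
  let I : Ideal (MvPolynomial K A) := RingHom.ker ev
  have hI : (Algebra.Generators.self A K).toExtension.ker = I := by
    ext y
    simp only [RingHom.mem_ker, I, ev]
    rfl
  rw [hI] at hx ⊢
  let R := MvPolynomial K A ⧸ I ^ 2
  let π : R →ₐ[A] K := Ideal.Quotient.liftₐ (I ^ 2) ev
    (fun y hy => by have := Ideal.pow_le_self two_ne_zero hy; exact RingHom.mem_ker.mp this)
  have hπmk : ∀ y, π (Ideal.Quotient.mk (I ^ 2) y) = ev y := fun y => rfl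
  have hπ : Function.Surjective π := fun k => by
    obtain ⟨y, rfl⟩ := hev k
    exact ⟨Ideal.Quotient.mk (I ^ 2) y, hπmk y⟩
  let J : Ideal R := RingHom.ker π
  have hJmap : J = I.map (Ideal.Quotient.mk (I ^ 2)) := by
    apply le_antisymm
    · intro z hz
      obtain ⟨y, rfl⟩ := Ideal.Quotient.mk_surjective z
      exact Ideal.mem_map_of_mem _ (RingHom.mem_ker.mpr ((hπmk y).symm.trans (RingHom.mem_ker.mp hz)))
    · rw [Ideal.map_le_iff_le_comap]
      intro y hy
      exact RingHom.mem_ker.mpr ((hπmk y).trans (RingHom.mem_ker.mp hy))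
  have hJ2 : J ^ 2 = ⊥ := by
    rw [hJmap, ← Ideal.map_pow, Ideal.map_quotient_self]
  let e : (R ⧸ J) ≃ₐ[A] K := Ideal.quotientKerAlgEquivOfSurjective hπ
  have he : ∀ z : R, e (Ideal.Quotient.mk J z) = π z := fun z => rfl
  let ψ : B →ₐ[A] R ⧸ J := e.symm.toAlgHom.comp (IsScalarTower.toAlgHom A B K)
  have hψ : ∃ k : ℕ, ∀ b ∈ (IsLocalRing.maximalIdeal B) ^ k, ψ b = 0 := by
    refine ⟨1, fun b hb => ?_⟩
    rw [pow_one] at hb
    have : algebraMap B K b = 0 := (IsLocalRing.residue_eq_zero_iff b).mpr hb
    show e.symm (algebraMap B K b) = 0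
    rw [this, map_zero]
  obtain ⟨χ, hχ⟩ := hfs R J hJ2 ψ hψ
  have hπχ : ∀ b : B, π (χ b) = algebraMap B K b := fun b => by
    have h1 : Ideal.Quotient.mk J (χ b) = e.symm (algebraMap B K b) := DFunLike.congr_fun hχ b
    rw [← he, h1, AlgEquiv.apply_symm_apply]
  let Φ : MvPolynomial K B →+* R := eval₂Hom χ.toRingHom (fun k => Ideal.Quotient.mk (I ^ 2) (X k))
  let f := (Algebra.Generators.defaultHom (Algebra.Generators.self A K)
        (Algebra.Generators.self B K)).toAlgHom
  have hΦf : Φ.comp f.toRingHom = Ideal.Quotient.mk (I ^ 2) := by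
    apply MvPolynomial.ringHom_ext
    · intro a
      show Φ (f (C a)) = _
      rw [← MvPolynomial.algebraMap_eq, AlgHom.commutes]
      show Φ (C (algebraMap A B a)) = _
      simp only [Φ, eval₂Hom_C]
      exact χ.commutes a
    · intro k
      show Φ (f (X k)) = _
      have : f (X k) = X k := by
        simp only [f, Algebra.Generators.Hom.toAlgHom]
        exact aeval_X _ _
      rw [this]
      simp [Φ]
  let evB : MvPolynomial K B →+* K := (aeval (fun k : K => k) : MvPolynomial K B →ₐ[B] K).toRingHom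
  have hπΦ : π.toRingHom.comp Φ = evB := by
    apply MvPolynomial.ringHom_ext
    · intro b
      simp [Φ, evB, hπχ]
    · intro k
      simp [Φ, evB, hπmk, ev]
  have hker : (Algebra.Generators.self B K).toExtension.ker ≤ J.comap Φ := by
    intro y hy
    have h0 : evB y = 0 := RingHom.mem_ker.mp hy
    rw [← hπΦ] at h0
    exact RingHom.mem_ker.mpr h0
  have h2 : Φ (f x) ∈ J ^ 2 := by
    have : Φ (f x) ∈ ((J.comap Φ) ^ 2).map Φ :=
      Ideal.mem_map_of_mem Φ (Ideal.pow_right_mono hker 2 h)
    rw [Ideal.map_pow] at this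
    exact Ideal.pow_right_mono Ideal.map_comap_le 2 this
  rw [hJ2, Ideal.mem_bot] at h2
  exact Ideal.Quotient.eq_zero_iff_mem.mp ((RingHom.congr_fun hΦf x).symm.trans h2)

end Groth.Agent.AdicFS
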