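import Groth.Agent.AdicFS.IndEtale

/-!
Formal fibres of ind-étale local extensions.
-/

set_option autoImplicit false
set_option linter.style.haveILetI false
universe u

open IsLocalRing TensorProduct

noncomputable section

namespace Groth.Agent.AdicFS

theorem isGRing_of_stages {R S : Type u} [CommRing R] [CommRing S] [IsNoetherianRing S] [Algebra R S]
    [Module.Flat R S] (hR : CAlg.IsGRing R) (h : HasEtaleStages R S) : CAlg.IsGRing S :=
  haveI := formallyUnramified_of_stages h
  isGRing_of_regular_unramified hR (isRegularHom_of_stages h)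

theorem completion_regular_iff_of_stages {R S : Type u} [CommRing R] [CommRing S] [IsLocalRing R] [IsLocalRing S]
    [IsNoetherianRing R] [IsNoetherianRing S] [Algebra R S] [IsLocalHom (algebraMap R S)] [Module.Flat R S]
    (h : HasEtaleStages R S) :
    CAlg.IsRegularHom S (EGA4.Cpl S) ↔ CAlg.IsRegularHom R (EGA4.Cpl R) := by
  haveI := formallyUnramified_of_stages h
  obtain ⟨_, hnS, _, _, _⟩ := RatliffLib.compl_facts S
  haveI := hnS
  obtain ⟨_, hnR, _, _, _⟩ := RatliffLib.compl_facts R
  haveI := hnR
  have hreg := isRegularHom_of_stages h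
  constructor
  · intro hS
    obtain ⟨alg, htow, hff⟩ := GRingCompleteLib.exists_completion_cover R S
    letI := alg
    haveI := htow
    haveI := hff
    exact RegDesc.isRegularHom_of_comp R (EGA4.Cpl R) (EGA4.Cpl S)
      (RegDesc.isRegularHom_comp R S (EGA4.Cpl S) hreg hS)
  · intro hR
    exact isRegularHom_of_unramified
      (isRegularHom_completion_of_adic hR (adic_of_fibre (hreg.2 (maximalIdeal R)).2))

end Groth.Agent.AdicFS
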