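import Groth.Agent.AdicFS.AndreLocal
import Groth.Agent.ProEtLib2.IndEtale
import Groth.Agent.PairHens.Basic

/-!
Ind-étale maps are regular and formally unramified; they preserve the G-ring property.
-/

set_option autoImplicit false
set_option linter.style.haveILetI false
universe u

open IsLocalRing TensorProduct

noncomputable section

namespace Groth.Agent.AdicFS

/-- Every finite set comes from a formally étale algebra of essentially finite type. -/
def HasEtaleStages (A B : Type u) [CommRing A] [CommRing B] [Algebra A B] : Prop :=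
  ∀ s : Finset B, ∃ (L : Type u) (_ : CommRing L) (_ : Algebra A L) (f : L →ₐ[A] B),
    Algebra.FormallyEtale A L ∧ Algebra.EssFiniteType A L ∧ (s : Set B) ⊆ Set.range f

theorem hasEtaleStages_of_isIndEtale {A B : Type u} [CommRing A] [CommRing B] [Algebra A B]
    (h : EtPBC.IsIndEtale A B) : HasEtaleStages A B := by
  intro s
  obtain ⟨E, _, _, _, u, v, huv⟩ := ProEtLib2.exists_factor h (MvPolynomial s A)
    (MvPolynomial.aeval fun x => (x : B))
  exact ⟨E, inferInstance, inferInstance, v, inferInstance, inferInstance, fun x hx =>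
    ⟨u (MvPolynomial.X ⟨x, hx⟩), (AlgHom.congr_fun huv _).trans (MvPolynomial.aeval_X _ _)⟩⟩

theorem hasEtaleStages_of_isPairHenselization {A B : Type u} [CommRing A] [CommRing B] [Algebra A B] (I : Ideal A)
    (hB : Hens2.IsPairHenselization A I B) : HasEtaleStages A B := by
  classical
  intro s
  obtain ⟨e⟩ := PairHens.exists_algEquiv hB
  obtain ⟨i, hi⟩ := PairHens.exists_lift_finset (s.image e.symm)
  refine ⟨i.L, inferInstance, inferInstance, e.toAlgHom.comp (PairHens.ι i), inferInstance, inferInstance,
    fun x hx => ?_⟩
  obtain ⟨y, hy⟩ := hi _ (Finset.mem_image_of_mem _ hx)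
  exact ⟨y, (congrArg e hy).trans (e.apply_symm_apply x)⟩

theorem formallyUnramified_of_stages {A B : Type u} [CommRing A] [CommRing B] [Algebra A B]
    (h : HasEtaleStages A B) : Algebra.FormallyUnramified A B := by
  refine ⟨subsingleton_of_forall_eq 0 fun ω => ?_⟩
  have hω : ω ∈ Submodule.span B (Set.range (KaehlerDifferential.D A B)) := by
    rw [KaehlerDifferential.span_range_derivation]; trivial
  induction hω using Submodule.span_induction with
  | mem y hy =>
    obtain ⟨b, rfl⟩ := hy
    obtain ⟨L, _, _, f, hfe, -, hb⟩ := h {b}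
    haveI := hfe
    obtain ⟨l, rfl⟩ := hb (by simp : b ∈ (({b} : Finset B) : Set B))
    letI : Algebra L B := f.toRingHom.toAlgebra
    haveI : IsScalarTower A L B := IsScalarTower.of_algebraMap_eq fun a => (f.commutes a).symm
    show KaehlerDifferential.D A B (algebraMap L B l) = 0
    rw [← KaehlerDifferential.map_D A A L B, Subsingleton.elim (KaehlerDifferential.D A L l) 0, map_zero]
  | zero => rfl
  | add x y _ _ hx hy => rw [hx, hy, add_zero]
  | smul a x _ hx => rw [hx, smul_zero]

theorem isRegularRing_of_stages {K B : Type u} [Field K] [CommRing B] [IsNoetherianRing B] [Algebra K B]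
    (h : HasEtaleStages K B) : IsRegularRing B := by
  classical
  have key : ∀ b : B, ∃ (L : Type u) (_ : CommRing L) (_ : Algebra K L) (f : L →ₐ[K] B),
      Module.Finite K L ∧ IsReduced L ∧ b ∈ f.range := fun b => by
    obtain ⟨L, _, _, f, hfe, hft, hb⟩ := h {b}
    haveI := hfe
    haveI := hft
    exact ⟨L, inferInstance, inferInstance, f, Algebra.FormallyUnramified.finite_of_free K L,
      Algebra.FormallyUnramified.isReduced_of_field K L, hb (by simp : b ∈ (({b} : Finset B) : Set B))⟩
  haveI : IsReduced B := ⟨fun b hb => by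
    obtain ⟨L, _, _, f, hfin, hred, ⟨l, rfl⟩⟩ := key b
    haveI := hfin
    haveI := hred
    haveI : IsArtinianRing L := IsArtinianRing.of_finite K L
    obtain ⟨m, y, hy⟩ := IsArtinian.exists_pow_succ_smul_dvd l (1 : L)
    simp only [smul_eq_mul, mul_one] at hy
    have h0 : l * (1 - l * y) = 0 := IsReduced.eq_zero _ ⟨m + 1, by
      rw [mul_pow, pow_succ (1 - l * y), ← mul_assoc,
        show l ^ (m + 1) * (1 - l * y) ^ m * (1 - l * y) = (1 - l * y) ^ m * l * (l ^ m - l ^ m.succ * y) by
          simp only [pow_succ]; ring, hy, sub_self, mul_zero]⟩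
    obtain ⟨n, hn⟩ := hb
    have hpow : ∀ j : ℕ, l = l ^ (j + 1) * y ^ j := fun j => by
      induction j with
      | zero => simp
      | succ j ih =>
        have h1 : l ^ (j + 1) * y ^ j - l ^ (j + 1 + 1) * y ^ (j + 1) = l ^ j * y ^ j * (l * (1 - l * y)) := by ring
        rw [h0, mul_zero, sub_eq_zero] at h1
        exact ih.trans h1
    show f l = 0
    rw [hpow n, map_mul, map_pow, pow_succ]
    show f l ^ n * f l * f (y ^ n) = 0
    rw [show f l ^ n = 0 from hn, zero_mul, zero_mul]⟩
  haveI : Algebra.IsIntegral K B := ⟨fun b => by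
    obtain ⟨L, _, _, f, hfin, -, ⟨l, rfl⟩⟩ := key b
    haveI := hfin
    exact (Algebra.IsIntegral.isIntegral (R := K) l).map f⟩
  haveI : Ring.KrullDimLE 0 B := Ring.krullDimLE_zero_iff.2 fun I _ =>
    Ideal.isMaximal_of_isIntegral_of_isMaximal_comap (R := K) I
      (by rw [show I.comap (algebraMap K B) = ⊥ from
        (Ideal.eq_bot_or_top _).resolve_right (Ideal.IsPrime.ne_top (Ideal.IsPrime.comap _))]
          exact Ideal.bot_isMaximal)
  refine isRegularRing_iff.2 fun q hq => ?_
  haveI : IsReduced (Localization.AtPrime q) := inferInstance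
  haveI : Ring.KrullDimLE 0 (Localization.AtPrime q) := Ring.KrullDimLE.of_isLocalization q
    (by simp [minimalPrimes_eq_minimals, Minimal]; exact ⟨hq, fun I hI hIq => ((Ideal.IsPrime.isMaximal' hI).eq_of_le hq.ne_top hIq).ge⟩) _
  letI := (Ring.KrullDimLE.isField_of_isReduced (R := Localization.AtPrime q)).toField
  infer_instance

theorem hasEtaleStages_baseChange {A B A' : Type u} [CommRing A] [CommRing B] [CommRing A'] [Algebra A B]
    [Algebra A A'] (h : HasEtaleStages A B) : HasEtaleStages A' (A' ⊗[A] B) := by
  classical
  intro s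
  have hrep : ∀ x : A' ⊗[A] B, ∃ t : Finset B, ∀ (L : Type u) [CommRing L] [Algebra A L] (f : L →ₐ[A] B),
      (t : Set B) ⊆ Set.range f → x ∈ Set.range (Algebra.TensorProduct.map (AlgHom.id A' A') f) := fun x => by
    induction x using TensorProduct.induction_on with
    | zero => exact ⟨∅, fun L _ _ f _ => ⟨0, map_zero _⟩⟩
    | tmul a b =>
      refine ⟨{b}, fun L _ _ f hf => ?_⟩
      obtain ⟨l, rfl⟩ := hf (by simp : b ∈ (({b} : Finset B) : Set B))
      exact ⟨a ⊗ₜ[A] l, rfl⟩
    | add x y hx hy =>
      obtain ⟨t₁, h₁⟩ := hx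
      obtain ⟨t₂, h₂⟩ := hy
      refine ⟨t₁ ∪ t₂, fun L _ _ f hf => ?_⟩
      rw [Finset.coe_union, Set.union_subset_iff] at hf
      obtain ⟨u₁, e₁⟩ := h₁ L f hf.1
      obtain ⟨u₂, e₂⟩ := h₂ L f hf.2
      exact ⟨u₁ + u₂, by rw [map_add, e₁, e₂]⟩
  choose t ht using hrep
  obtain ⟨L, _, _, f, hfe, hft, hf⟩ := h (s.biUnion t)
  haveI := hfe
  haveI := hft
  refine ⟨A' ⊗[A] L, inferInstance, inferInstance, Algebra.TensorProduct.map (AlgHom.id A' A') f,
    inferInstance, inferInstance, fun x hx => ht x L f fun b hb => hf ?_⟩
  exact Finset.mem_biUnion.2 ⟨x, hx, hb⟩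

theorem isRegularHom_of_stages {A B : Type u} [CommRing A] [CommRing B] [IsNoetherianRing B]
    [Algebra A B] [Module.Flat A B] (h : HasEtaleStages A B) : CAlg.IsRegularHom A B := by
  refine RegHomLib.isRegularHom_of_fields
    (fun p _ => RegDesc.isNoetherianRing_tensor_essFiniteType A p.ResidueField B) fun K _ _ _ hN => ?_
  exact isRegularRing_of_stages (hasEtaleStages_baseChange h)

/-- Regularity passes through formally unramified maps. -/
theorem isRegularHom_of_unramified {A B C : Type u} [CommRing A] [CommRing B] [CommRing C] [IsNoetherianRing A]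
    [IsNoetherianRing B] [IsNoetherianRing C] [Algebra A B] [Algebra B C] [Algebra A C] [IsScalarTower A B C]
    [Algebra.FormallyUnramified A B] (h : CAlg.IsRegularHom A C) : CAlg.IsRegularHom B C := by
  refine isRegularHom_of_adic fun q hq => ?_
  let Q := Ideal.comap (algebraMap B C) q
  let P := Ideal.comap (algebraMap A C) q
  letI alg : Algebra (Localization.AtPrime Q) (Localization.AtPrime q) :=
    (Localization.localRingHom Q q (algebraMap B C) rfl).toAlgebra
  have hAC := adic_of_isRegularHom h q
  letI algP : Algebra (Localization.AtPrime P) (Localization.AtPrime q) :=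
    (Localization.localRingHom P q (algebraMap A C) rfl).toAlgebra
  haveI : IsScalarTower B (Localization.AtPrime Q) (Localization.AtPrime q) :=
    IsScalarTower.of_algebraMap_eq fun b => (Localization.localRingHom_to_map Q q (algebraMap B C) rfl b).symm
  haveI : IsScalarTower A (Localization.AtPrime P) (Localization.AtPrime q) :=
    IsScalarTower.of_algebraMap_eq fun b => (Localization.localRingHom_to_map P q (algebraMap A C) rfl b).symm
  have hPQ : Q.comap (algebraMap A B) = P := by
    show (q.comap (algebraMap B C)).comap (algebraMap A B) = q.comap (algebraMap A C)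
    rw [Ideal.comap_comap, ← IsScalarTower.algebraMap_eq]
  intro T _ _ J hJ ψ hψ
  letI : Algebra A T := Algebra.compHom T ((algebraMap B (Localization.AtPrime Q)).comp (algebraMap A B))
  haveI : IsScalarTower A (Localization.AtPrime Q) T := IsScalarTower.of_algebraMap_eq fun a => by
    rw [IsScalarTower.algebraMap_apply A B (Localization.AtPrime Q)]
    rfl
  let jP : Localization.AtPrime P →+* T :=
    (algebraMap (Localization.AtPrime Q) T).comp (Localization.localRingHom P Q (algebraMap A B) hPQ.symm)
  letI : Algebra (Localization.AtPrime P) T := jP.toAlgebra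
  haveI : IsScalarTower A (Localization.AtPrime P) T := IsScalarTower.of_algebraMap_eq fun a => by
    show _ = algebraMap (Localization.AtPrime Q) T (Localization.localRingHom P Q (algebraMap A B) hPQ.symm _)
    rw [Localization.localRingHom_to_map]
    rfl
  have hψA : ∀ a, ψ (algebraMap A (Localization.AtPrime q) a) = algebraMap A (T ⧸ J) a := fun a => by
    rw [IsScalarTower.algebraMap_apply A B (Localization.AtPrime q),
      IsScalarTower.algebraMap_apply B (Localization.AtPrime Q) (Localization.AtPrime q), ψ.commutes]
    rfl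
  let ψ' : Localization.AtPrime q →ₐ[Localization.AtPrime P] T ⧸ J :=
    { ψ.toRingHom with
      commutes' := fun x => RingHom.congr_fun (IsLocalization.ringHom_ext P.primeCompl
        (j := ψ.toRingHom.comp (algebraMap (Localization.AtPrime P) (Localization.AtPrime q)))
        (k := algebraMap (Localization.AtPrime P) (T ⧸ J)) (RingHom.ext fun a => by
          show ψ (algebraMap (Localization.AtPrime P) (Localization.AtPrime q) (algebraMap A (Localization.AtPrime P) a)) =
            Ideal.Quotient.mk J (algebraMap (Localization.AtPrime P) T (algebraMap A (Localization.AtPrime P) a))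
          rw [← IsScalarTower.algebraMap_apply, ← IsScalarTower.algebraMap_apply, hψA]
          rfl)) x }
  obtain ⟨χ, hχ⟩ := hAC T J hJ ψ' hψ
  have hχA : ∀ a, χ (algebraMap A (Localization.AtPrime q) a) = algebraMap A T a := fun a => by
    rw [IsScalarTower.algebraMap_apply A (Localization.AtPrime P) (Localization.AtPrime q), χ.commutes,
      ← IsScalarTower.algebraMap_apply]
  haveI : Algebra.FormallyUnramified A (Localization.AtPrime Q) := by
    haveI : Algebra.FormallyUnramified B (Localization.AtPrime Q) :=
      Algebra.FormallyUnramified.of_isLocalization Q.primeCompl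
    exact Algebra.FormallyUnramified.comp A B (Localization.AtPrime Q)
  let f₁ : Localization.AtPrime Q →ₐ[A] T :=
    { χ.toRingHom.comp (algebraMap (Localization.AtPrime Q) (Localization.AtPrime q)) with
      commutes' := fun a => by
        show χ (algebraMap (Localization.AtPrime Q) (Localization.AtPrime q) (algebraMap A _ a)) = _
        rw [IsScalarTower.algebraMap_apply A B (Localization.AtPrime Q), ← IsScalarTower.algebraMap_apply,
          ← IsScalarTower.algebraMap_apply, hχA] }
  let f₂ : Localization.AtPrime Q →ₐ[A] T := IsScalarTower.toAlgHom A (Localization.AtPrime Q) T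
  have heq : f₁ = f₂ := Algebra.FormallyUnramified.comp_injective J hJ (AlgHom.ext fun x =>
    (AlgHom.congr_fun hχ (algebraMap (Localization.AtPrime Q) (Localization.AtPrime q) x)).trans (ψ.commutes x))
  exact ⟨{ χ.toRingHom with commutes' := fun x => AlgHom.congr_fun heq x },
    AlgHom.ext fun z => AlgHom.congr_fun hχ z⟩

/-- The completion of a formally smooth local algebra is regular over a base with regular formal fibres. -/
theorem isRegularHom_completion_of_adic {A B : Type u} [CommRing A] [CommRing B] [IsLocalRing A] [IsLocalRing B]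
    [IsNoetherianRing A] [IsNoetherianRing B] [Algebra A B] [IsLocalHom (algebraMap A B)]
    (hA : CAlg.IsRegularHom A (EGA4.Cpl A)) (h : CAlgX.IsAdicFormallySmooth A B (maximalIdeal B)) :
    CAlg.IsRegularHom A (EGA4.Cpl B) := by
  obtain ⟨_, hnB, _, hlB, hmB⟩ := RatliffLib.compl_facts B
  haveI := hnB
  haveI := hlB
  haveI : IsLocalHom (algebraMap A (EGA4.Cpl B)) := by
    rw [IsScalarTower.algebraMap_eq A B (EGA4.Cpl B)]
    exact RingHom.isLocalHom_comp _ _
  refine isRegularHom_of_adic_local hA ?_
  rw [hmB]
  exact (adicCompletion_iff' (maximalIdeal B) (maximalIdeal B).fg_of_isNoetherianRing).1 h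

/-- The G-ring property passes to regular formally unramified algebras. -/
theorem isGRing_of_regular_unramified {R S : Type u} [CommRing R] [CommRing S] [IsNoetherianRing S] [Algebra R S]
    (hR : CAlg.IsGRing R) (hreg : CAlg.IsRegularHom R S) [Algebra.FormallyUnramified R S] : CAlg.IsGRing S := by
  haveI := hR.1
  refine ⟨inferInstance, fun Q _ => ?_⟩
  let P := Q.comap (algebraMap R S)
  let A := Localization.AtPrime P
  let B := Localization.AtPrime Q
  have hadic := adic_of_isRegularHom hreg Q
  letI : Algebra A B := (Localization.localRingHom P Q (algebraMap R S) rfl).toAlgebra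
  haveI : IsScalarTower R A B :=
    IsScalarTower.of_algebraMap_eq fun r => (Localization.localRingHom_to_map P Q (algebraMap R S) rfl r).symm
  haveI : IsLocalHom (algebraMap A B) := Localization.isLocalHom_localRingHom P Q (algebraMap R S) rfl
  haveI : IsNoetherianRing A := IsLocalization.isNoetherianRing P.primeCompl _ inferInstance
  haveI : IsNoetherianRing B := IsLocalization.isNoetherianRing Q.primeCompl _ inferInstance
  obtain ⟨_, hnB, _, _, _⟩ := RatliffLib.compl_facts B
  haveI := hnB
  haveI : Algebra.FormallyUnramified R B := by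
    haveI : Algebra.FormallyUnramified S B := Algebra.FormallyUnramified.of_isLocalization Q.primeCompl
    exact Algebra.FormallyUnramified.comp R S B
  haveI : Algebra.FormallyUnramified A B := Algebra.FormallyUnramified.of_restrictScalars R A B
  exact isRegularHom_of_unramified (isRegularHom_completion_of_adic (hR.2 P) hadic)

end Groth.Agent.AdicFS
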