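import Groth.Agent.GeomRk.Field
import Groth.Agent.S4576
import Groth.Agent.S4577
import Mathlib

/-!
Formal smoothness of algebras of finite type over a separable extension of the base field.
-/

set_option autoImplicit false
set_option linter.style.haveILetI false
universe u

open IsLocalRing TensorProduct

namespace Groth.Agent.AdicFS

variable {k₀ k C : Type u} [Field k₀] [Field k] [Algebra k₀ k] [Algebra.FormallySmooth k₀ k]
  [CommRing C] [Algebra k C] [Algebra k₀ C] [IsScalarTower k₀ k C] [Algebra.FiniteType k C]

theorem formallySmooth_iff_adic_sep (k : Type u) [Field k] [Algebra k₀ k] [Algebra.FormallySmooth k₀ k]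
    [Algebra k C] [IsScalarTower k₀ k C] [Algebra.FiniteType k C] (p : Ideal C) [p.IsPrime] :
    Algebra.FormallySmooth k₀ (Localization.AtPrime p) ↔
      CAlgX.IsAdicFormallySmooth k₀ (Localization.AtPrime p) (maximalIdeal (Localization.AtPrime p)) := by
  constructor
  · intro h D _ _ J hJ ψ _
    exact Algebra.FormallySmooth.comp_surjective k₀ (Localization.AtPrime p) J hJ ψ
  · intro h
    obtain ⟨n, π, hπ⟩ := Algebra.FiniteType.iff_quotient_mvPolynomial''.1 ‹Algebra.FiniteType k C›
    let B := MvPolynomial (Fin n) k
    haveI : Algebra.FormallySmooth k₀ B := Algebra.FormallySmooth.comp k₀ k B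
    letI : Algebra B C := π.toRingHom.toAlgebra
    haveI : IsScalarTower k₀ B C := .of_algebraMap_eq fun a => by
      rw [IsScalarTower.algebraMap_apply k₀ k B, RingHom.algebraMap_toAlgebra]
      exact (IsScalarTower.algebraMap_apply k₀ k C a).trans (π.commutes _).symm
    let q := p.comap (algebraMap B C)
    let J := RingHom.ker (algebraMap B C)
    let P := Localization.AtPrime q
    letI : Algebra P (Localization.AtPrime p) := (Localization.localRingHom _ p (algebraMap B C) rfl).toAlgebra
    obtain ⟨h1, hs, hker⟩ := JacobianLib.localization_data (R := k₀) (B := B) (C := C) hπ p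
    haveI := h1
    haveI : IsNoetherianRing P := IsLocalization.isNoetherianRing q.primeCompl P inferInstance
    have hJq : J ≤ q := fun a ha => by
      show algebraMap B C a ∈ p
      rw [RingHom.mem_ker.1 ha]; exact p.zero_mem
    refine (JacobianLib.iff_minor q J hJq hs hker).2 (JacobianLib.exists_minor_of_indep q J hJq fun x hx hD => ?_)
    have hmap : ∀ w ∈ q • (⊤ : Submodule B Ω[B⁄k₀]),
        KaehlerDifferential.map k₀ k₀ B P w ∈ maximalIdeal P • (⊤ : Submodule P Ω[P⁄k₀]) := fun w hw => by
      refine Submodule.smul_induction_on hw (fun a ha z _ => ?_) (fun a b ha hb => by rw [map_add]; exact add_mem ha hb)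
      rw [map_smul, ← algebraMap_smul P a]
      exact Submodule.smul_mem_smul ((IsLocalization.AtPrime.to_map_mem_maximal_iff P q a).2 ha) Submodule.mem_top
    have h2 := JacobianLib.mem_of_adic hs h (x := algebraMap B P x)
      (hker.symm ▸ Ideal.mem_map_of_mem _ hx) (by simpa only [KaehlerDifferential.map_D] using hmap _ hD)
    rwa [hker] at h2

/-- Geometric regularity passes to localizations. -/
theorem geometricallyRegular_localization {k A : Type u} [Field k] [CommRing A] [Algebra k A]
    (h : CAlg.IsGeometricallyRegular k A) (S : Submonoid A) (Aq : Type u) [CommRing Aq] [Algebra A Aq]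
    [Algebra k Aq] [IsScalarTower k A Aq] [IsLocalization S Aq] : CAlg.IsGeometricallyRegular k Aq := by
  intro k' _ _ hfin
  haveI := h k' hfin
  letI : Algebra A (k' ⊗[k] A) := Algebra.TensorProduct.rightAlgebra
  letI : Algebra (k' ⊗[k] A) (k' ⊗[k] Aq) :=
    (Algebra.TensorProduct.map (AlgHom.id k k') (IsScalarTower.toAlgHom k A Aq)).toRingHom.toAlgebra
  haveI : IsLocalization (Algebra.algebraMapSubmonoid (k' ⊗[k] A) S) (k' ⊗[k] Aq) :=
    RegHomLib.isLocalization_tensor k k' A Aq S
  exact CyclicRootLib.isRegularRing_of_isLocalization (Algebra.algebraMapSubmonoid (k' ⊗[k] A) S) _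

/-- Geometric regularity is checked at maximal ideals. -/
theorem geometricallyRegular_of_localizations {k A : Type u} [Field k] [CommRing A] [Algebra k A]
    [IsNoetherianRing A]
    (h : ∀ (m : Ideal A) [m.IsMaximal], CAlg.IsGeometricallyRegular k (Localization.AtPrime m)) :
    CAlg.IsGeometricallyRegular k A := by
  intro K _ _ hK
  letI : Algebra A (K ⊗[k] A) := Algebra.TensorProduct.rightAlgebra
  haveI : Module.Finite A (K ⊗[k] A) :=
    Module.Finite.equiv (Algebra.TensorProduct.commRight k A K).toLinearEquiv
  haveI : IsNoetherianRing (K ⊗[k] A) := IsNoetherianRing.of_finite A _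
  refine RegComplLib.isRegularRing_of_isMaximal _ fun N hN => ?_
  haveI := hN
  let m := N.comap (algebraMap A (K ⊗[k] A))
  haveI : m.IsMaximal := Ideal.isMaximal_comap_of_isIntegral_of_isMaximal N
  haveI := h m K hK
  let Am := Localization.AtPrime m
  letI : Algebra (K ⊗[k] A) (K ⊗[k] Am) :=
    (Algebra.TensorProduct.map (AlgHom.id k K) (IsScalarTower.toAlgHom k A Am)).toRingHom.toAlgebra
  let M := Algebra.algebraMapSubmonoid (K ⊗[k] A) m.primeCompl
  haveI : IsLocalization M (K ⊗[k] Am) := RegHomLib.isLocalization_tensor k K A Am m.primeCompl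
  have hdisj : Disjoint (M : Set (K ⊗[k] A)) (N : Set (K ⊗[k] A)) :=
    Set.disjoint_left.2 fun x ⟨s, hs, e⟩ hx => by subst e; exact hs hx
  let N' : PrimeSpectrum (K ⊗[k] Am) :=
    ⟨N.map (algebraMap _ _), IsLocalization.isPrime_of_isPrime_disjoint M _ N inferInstance hdisj⟩
  have h1 := (RegLocLib.mem_regLocus_iff_of_isLocalization M N').1
    (@IsRegularRing.isRegularLocalRing_localization _ _ _ N'.asIdeal N'.isPrime)
  have h2 : PrimeSpectrum.comap (algebraMap (K ⊗[k] A) (K ⊗[k] Am)) N' = ⟨N, inferInstance⟩ :=
    PrimeSpectrum.ext (IsLocalization.under_map_of_isPrime_disjoint M _ inferInstance hdisj)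
  rw [h2] at h1
  exact h1

theorem adic_iff_geometricallyRegular {k A : Type u} [Field k] [CommRing A] [IsLocalRing A] [IsNoetherianRing A]
    [Algebra k A] :
    CAlgX.IsAdicFormallySmooth k A (maximalIdeal A) ↔ CAlg.IsGeometricallyRegular k A := by
  obtain ⟨e, he⟩ := ExpChar.exists k
  exact ⟨SymGrLib.isGeometricallyRegular_of_isAdicFormallySmooth,
    fun h => (S4573.result e).2 fun k' _ _ hk' _ => h k' hk'⟩

theorem tfae_localization (k : Type u) [Field k] [Algebra k₀ k] [Algebra.FormallySmooth k₀ k]
    [Algebra k C] [IsScalarTower k₀ k C] [Algebra.FiniteType k C] (p : Ideal C) [p.IsPrime] :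
    [Algebra.FormallySmooth k₀ (Localization.AtPrime p),
     CAlgX.IsAdicFormallySmooth k₀ (Localization.AtPrime p) (maximalIdeal (Localization.AtPrime p)),
     ∃ f : C, f ∉ p ∧ Algebra.FormallySmooth k₀ (Localization.Away f),
     CAlg.IsGeometricallyRegular k₀ (Localization.AtPrime p)].TFAE := by
  classical
  haveI : IsNoetherianRing C := Algebra.FiniteType.isNoetherianRing k C
  tfae_have 1 ↔ 2 := formallySmooth_iff_adic_sep k p
  tfae_have 2 ↔ 4 := adic_iff_geometricallyRegular
  tfae_have 3 → 1 := fun ⟨f, hf, hs⟩ => by
    haveI := hs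
    letI : Algebra (Localization.Away f) (Localization.AtPrime p) :=
      (IsLocalization.Away.lift f (g := algebraMap C (Localization.AtPrime p))
        (IsLocalization.map_units _ ⟨f, show f ∈ p.primeCompl from hf⟩)).toAlgebra
    haveI : IsScalarTower C (Localization.Away f) (Localization.AtPrime p) :=
      IsScalarTower.of_algebraMap_eq fun c => (IsLocalization.Away.lift_eq f _ c).symm
    haveI : IsScalarTower k₀ (Localization.Away f) (Localization.AtPrime p) :=
      IsScalarTower.of_algebraMap_eq fun c => by
        rw [IsScalarTower.algebraMap_apply k₀ C (Localization.Away f), ← IsScalarTower.algebraMap_apply C,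
          ← IsScalarTower.algebraMap_apply]
    haveI : Algebra.FormallyEtale (Localization.Away f) (Localization.AtPrime p) := by
      haveI : Algebra.FormallyEtale C (Localization.Away f) := Algebra.FormallyEtale.of_isLocalization (.powers f)
      haveI : Algebra.FormallyEtale C (Localization.AtPrime p) := Algebra.FormallyEtale.of_isLocalization p.primeCompl
      exact Algebra.FormallyEtale.of_restrictScalars (R := C)
    exact Algebra.FormallySmooth.comp k₀ (Localization.Away f) (Localization.AtPrime p)
  tfae_have 1 → 3 := fun h => by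
    obtain ⟨n, π, hπ⟩ := Algebra.FiniteType.iff_quotient_mvPolynomial''.1 ‹Algebra.FiniteType k C›
    let B := MvPolynomial (Fin n) k
    haveI : Algebra.FormallySmooth k₀ B := Algebra.FormallySmooth.comp k₀ k B
    letI : Algebra B C := π.toRingHom.toAlgebra
    haveI : IsScalarTower k₀ B C := .of_algebraMap_eq fun a => by
      rw [IsScalarTower.algebraMap_apply k₀ k B, RingHom.algebraMap_toAlgebra]
      exact (IsScalarTower.algebraMap_apply k₀ k C a).trans (π.commutes _).symm
    haveI : Module.Finite B (RingHom.ker (algebraMap B C)).Cotangent :=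
      Module.Finite.of_surjective _ (Ideal.toCotangent_surjective _)
    have hopen := JacobianLib.isOpen_formallySmooth (R := k₀) (B := B) (C := C) hπ
    obtain ⟨_, ⟨_, ⟨f, rfl⟩, rfl⟩, hfp, hfU⟩ :=
      PrimeSpectrum.isBasis_basic_opens.exists_subset_of_mem_open (show (⟨p, ‹_›⟩ : PrimeSpectrum C) ∈ _ from h) hopen
    obtain ⟨g, hg⟩ := hπ f
    refine ⟨f, hfp, ?_⟩
    -- present the localization as a quotient of a localization of the polynomial ring
    let B' := Localization.Away g
    letI : Algebra B' (Localization.Away f) := (IsLocalization.Away.lift g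
      (g := (algebraMap C (Localization.Away f)).comp (algebraMap B C)) (by
        show IsUnit (algebraMap C (Localization.Away f) (π g))
        rw [hg]
        exact IsLocalization.Away.algebraMap_isUnit f)).toAlgebra
    have hB' : ∀ b : B, algebraMap B' (Localization.Away f) (algebraMap B B' b) =
        algebraMap C (Localization.Away f) (π b) := fun b => IsLocalization.Away.lift_eq g _ b
    haveI : IsScalarTower k₀ B' (Localization.Away f) := IsScalarTower.of_algebraMap_eq fun a => by
      rw [IsScalarTower.algebraMap_apply k₀ B B', hB', IsScalarTower.algebraMap_apply k₀ C (Localization.Away f),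
        show π (algebraMap k₀ B a) = algebraMap B C (algebraMap k₀ B a) from rfl, ← IsScalarTower.algebraMap_apply k₀ B C]
    haveI : Algebra.FormallyEtale B B' := Algebra.FormallyEtale.of_isLocalization (.powers g)
    haveI : Algebra.FormallySmooth k₀ B' := Algebra.FormallySmooth.comp k₀ B B'
    have hsurj : Function.Surjective (algebraMap B' (Localization.Away f)) := fun z => by
      obtain ⟨c, ⟨_, i, rfl⟩, rfl⟩ := IsLocalization.exists_mk'_eq (Submonoid.powers f) z
      obtain ⟨b, rfl⟩ := hπ c
      refine ⟨IsLocalization.mk' B' b (⟨g ^ i, i, rfl⟩ : Submonoid.powers g), ?_⟩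
      rw [IsLocalization.eq_mk'_iff_mul_eq]
      show _ * algebraMap C (Localization.Away f) (f ^ i) = _
      rw [show f ^ i = π (g ^ i) by rw [map_pow, hg], ← hB', ← map_mul]
      exact (congrArg (algebraMap B' (Localization.Away f))
        (IsLocalization.mk'_spec B' b (⟨g ^ i, i, rfl⟩ : Submonoid.powers g))).trans (hB' b)
    haveI : IsNoetherianRing B' := IsLocalization.isNoetherianRing (.powers g) B' inferInstance
    haveI : Module.Finite B' (RingHom.ker (algebraMap B' (Localization.Away f))).Cotangent :=
      Module.Finite.of_surjective _ (Ideal.toCotangent_surjective _)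
    refine (JacobianLib.formallySmooth_iff_localization hsurj).2 fun m _ => ?_
    let q := m.comap (algebraMap C (Localization.Away f))
    haveI : q.IsPrime := Ideal.IsPrime.comap _
    have hfq : f ∉ q := fun hmem => Ideal.IsPrime.ne_top (inferInstance : m.IsPrime)
      (Ideal.eq_top_of_isUnit_mem m hmem (IsLocalization.Away.algebraMap_isUnit f))
    haveI : Algebra.FormallySmooth k₀ (Localization.AtPrime q) :=
      hfU (a := ⟨q, inferInstance⟩) hfq
    haveI : IsLocalization.AtPrime (Localization.AtPrime m) q :=
      IsLocalization.isLocalization_isLocalization_atPrime_isLocalization (Submonoid.powers f) _ m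
    exact Algebra.FormallySmooth.of_equiv
      ((IsLocalization.algEquiv q.primeCompl (Localization.AtPrime q) (Localization.AtPrime m)).restrictScalars k₀)
  tfae_finish

theorem tfae_global (k : Type u) [Field k] [Algebra k₀ k] [Algebra.FormallySmooth k₀ k]
    [Algebra k C] [IsScalarTower k₀ k C] [Algebra.FiniteType k C] :
    [Algebra.FormallySmooth k₀ C,
     ∀ (p : Ideal C) [p.IsPrime], Algebra.FormallySmooth k₀ (Localization.AtPrime p),
     ∀ (m : Ideal C) [m.IsMaximal], Algebra.FormallySmooth k₀ (Localization.AtPrime m),
     CAlg.IsGeometricallyRegular k₀ C].TFAE := by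
  classical
  haveI : IsNoetherianRing C := Algebra.FiniteType.isNoetherianRing k C
  tfae_have 1 → 2 := fun _ p _ => by
    haveI : Algebra.FormallySmooth C (Localization.AtPrime p) :=
      Algebra.FormallySmooth.of_isLocalization p.primeCompl
    exact Algebra.FormallySmooth.comp k₀ C _
  tfae_have 2 → 3 := fun h m _ => h m
  tfae_have 3 → 1 := fun h => by
    obtain ⟨n, π, hπ⟩ := Algebra.FiniteType.iff_quotient_mvPolynomial''.1 ‹Algebra.FiniteType k C›
    let B := MvPolynomial (Fin n) k
    haveI : Algebra.FormallySmooth k₀ B := Algebra.FormallySmooth.comp k₀ k B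
    letI : Algebra B C := π.toRingHom.toAlgebra
    haveI : IsScalarTower k₀ B C := .of_algebraMap_eq fun a => by
      rw [IsScalarTower.algebraMap_apply k₀ k B, RingHom.algebraMap_toAlgebra]
      exact (IsScalarTower.algebraMap_apply k₀ k C a).trans (π.commutes _).symm
    haveI : Module.Finite B (RingHom.ker (algebraMap B C)).Cotangent :=
      Module.Finite.of_surjective _ (Ideal.toCotangent_surjective _)
    exact (JacobianLib.formallySmooth_iff_localization hπ).2 h
  tfae_have 3 → 4 := fun h => geometricallyRegular_of_localizations fun m _ =>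
    adic_iff_geometricallyRegular.1 ((formallySmooth_iff_adic_sep k m).1 (h m))
  tfae_have 4 → 2 := fun h p _ => (formallySmooth_iff_adic_sep k p).2
    (adic_iff_geometricallyRegular.2 (geometricallyRegular_localization h p.primeCompl _))
  tfae_finish

end Groth.Agent.AdicFS
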