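import Groth.Agent.S2471
import Groth.Agent.S4512
import Groth.Agent.SymGrLib.Geometric
import Groth.Agent.FieldExtLib.CompleteLift
import Groth.Agent.PSStructLib.Basic
import Groth.Agent.RegLocal.Completion
import Groth.Agent.WildQuotLib.PSReg

/-!
Formal smoothness over a field with separable residue extension.
-/

set_option autoImplicit false
set_option linter.style.haveILetI false
universe u

open IsLocalRing KaehlerDifferential TensorProduct

namespace Groth.Agent.AdicFS

theorem injective_lTensor_of_formallySmooth {k A : Type u} [Field k] [CommRing A] [IsLocalRing A]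
    [Algebra k A] [Algebra.FormallySmooth k (ResidueField A)] :
    Function.Injective ((mapBaseChange ℤ k A).lTensor (ResidueField A)) := by
  let K := ResidueField A
  refine SymGrLib.injective_lTensor_of_linearIndependent fun r b hb => ?_
  haveI : Subsingleton (Algebra.H1Cotangent k K) := Algebra.FormallySmooth.subsingleton_h1Cotangent
  have hinj : Function.Injective (mapBaseChange ℤ k K) := by
    rw [injective_iff_map_eq_zero]
    intro x hx
    obtain ⟨y, rfl⟩ := (Algebra.H1Cotangent.exact_δ_mapBaseChange ℤ k K x).1 hx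
    rw [Subsingleton.elim y 0, map_zero]
  have h1 := (Module.Flat.linearIndependent_one_tmul (S := K) hb).map' (mapBaseChange ℤ k K)
    (LinearMap.ker_eq_bot.2 hinj)
  refine LinearIndependent.of_comp (mapBaseChange ℤ A K) ?_
  have he : (mapBaseChange ℤ A K ∘ fun i => (1 : K) ⊗ₜ[A] D ℤ A (algebraMap k A (b i))) =
      (mapBaseChange ℤ k K ∘ fun i => (1 : K) ⊗ₜ[k] D ℤ k (b i)) := funext fun i => by
    simp only [Function.comp_apply, mapBaseChange_tmul, one_smul, map_D]
    rw [← IsScalarTower.algebraMap_apply k A K]
  rw [he]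
  exact h1

theorem tfae_sep {k A : Type u} [Field k] [CommRing A] [IsLocalRing A] [IsNoetherianRing A] [Algebra k A]
    [Algebra.IsGeometricallyReduced k (ResidueField A)] :
    [CAlgX.IsAdicFormallySmooth k A (maximalIdeal A),
     ∃ (n : ℕ) (e : AdicCompletion (maximalIdeal A) A ≃+* MvPowerSeries (Fin n) (ResidueField A)),
       ∀ x : k, e (algebraMap A (AdicCompletion (maximalIdeal A) A) (algebraMap k A x)) =
         algebraMap (ResidueField A) (MvPowerSeries (Fin n) (ResidueField A)) (algebraMap k (ResidueField A) x),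
     ∃ n : ℕ, Nonempty (AdicCompletion (maximalIdeal A) A ≃+* MvPowerSeries (Fin n) (ResidueField A)),
     IsRegularLocalRing A].TFAE := by
  classical
  let K := ResidueField A
  haveI hfs : Algebra.FormallySmooth k K :=
    FieldExtLib.formallySmooth_of_isGeometricallyReduced ‹Algebra.IsGeometricallyReduced k (ResidueField A)›
  have hne : maximalIdeal A ≠ ⊤ := (maximalIdeal.isMaximal A).ne_top
  let T := AdicCompletion (maximalIdeal A) A
  haveI : IsLocalRing T := RegLocal.isLocalRing_completion A (maximalIdeal A) hne
  have hmax := RegLocal.maximalIdeal_completion A (maximalIdeal A) hne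
  tfae_have 2 → 3 := fun ⟨n, e, _⟩ => ⟨n, ⟨e⟩⟩
  tfae_have 3 → 4 := fun ⟨n, ⟨e⟩⟩ => by
    haveI : IsRegularLocalRing T := IsRegularLocalRing.of_ringEquiv e.symm
    exact (RegLocal.isRegularLocalRing_completion_iff A _ hne).2 ‹_›
  tfae_have 4 → 1 := fun h => S2471.result.2 ⟨h, injective_lTensor_of_formallySmooth⟩
  tfae_have 1 → 4 := fun h => (S2471.result.1 h).1
  tfae_have 4 → 2 := fun h => by
    haveI := h
    haveI : IsRegularLocalRing T := (RegLocal.isRegularLocalRing_completion_iff A _ hne).1 h
    haveI : IsAdicComplete (maximalIdeal T) T := by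
      rw [hmax]; exact AdicCompletion.isAdicComplete_self _ (maximalIdeal A).fg_of_isNoetherianRing
    let f₁ : A →ₐ[k] T ⧸ maximalIdeal T ^ (0 + 1) :=
      (Ideal.Quotient.mkₐ k _).comp (IsScalarTower.toAlgHom k A T)
    let f₀ : K →ₐ[k] T ⧸ maximalIdeal T ^ (0 + 1) := Ideal.Quotient.liftₐ (maximalIdeal A) f₁ fun a ha => by
      refine Ideal.Quotient.eq_zero_iff_mem.2 ?_
      rw [zero_add, pow_one, hmax]
      exact Ideal.mem_map_of_mem _ ha
    obtain ⟨F, hF⟩ := FieldExtLib.exists_lift_complete (maximalIdeal T) 0 f₀
    letI : Algebra K T := F.toRingHom.toAlgebra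
    have hres : Function.Surjective ((residue T).comp (algebraMap K T)) := fun z => by
      obtain ⟨z, rfl⟩ := residue_surjective z
      obtain ⟨a, ha⟩ := Ideal.Quotient.mk_surjective ((AdicCompletion.evalOneₐ (maximalIdeal A)).toRingHom z)
      refine ⟨residue A a, (Ideal.Quotient.eq (I := maximalIdeal T)).2 ?_⟩
      have h1 : F (residue A a) - algebraMap A T a ∈ maximalIdeal T := by
        have h2 := (Ideal.Quotient.eq (I := maximalIdeal T ^ (0 + 1))).1 (AlgHom.congr_fun hF (residue A a))
        rwa [zero_add, pow_one] at h2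
      have h3 : algebraMap A T a - z ∈ maximalIdeal T := by
        rw [hmax, ← AdicCompletion.ker_evalOneₐ_eq_map _ (maximalIdeal A).fg_of_isNoetherianRing, RingHom.mem_ker,
          map_sub, ← ha, sub_eq_zero]
        rfl
      have := add_mem h1 h3
      rw [sub_add_sub_cancel] at this
      exact this
    obtain ⟨n, ⟨e⟩⟩ := PSStructLib.exists_algEquiv (k := K) (R := T) hres
    refine ⟨n, e.toRingEquiv, fun x => ?_⟩
    have hx : algebraMap A T (algebraMap k A x) = F (algebraMap k K x) := by
      rw [F.commutes, ← IsScalarTower.algebraMap_apply]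
    show e (algebraMap A T (algebraMap k A x)) = _
    rw [hx]
    exact e.commutes _
  tfae_finish

end Groth.Agent.AdicFS
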