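import Mathlib
import Groth.Prelude.Def_CAlgX

/-!
Adic formal smoothness of local rings is detected by lifting along local and along small extensions.
-/

set_option autoImplicit false
universe u

open IsLocalRing

namespace Groth.Agent.AdicFS

variable {R S : Type u} [CommRing R] [CommRing S] [IsLocalRing R] [IsLocalRing S] [Algebra R S]
  [IsLocalHom (algebraMap R S)]

/-- The elements whose class lies in the image of `ψ`. -/
def liftRing {T : Type u} [CommRing T] [Algebra R T] (J : Ideal T) (ψ : S →ₐ[R] T ⧸ J) : Subalgebra R T :=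
  ψ.range.comap (Ideal.Quotient.mkₐ R J)

variable {T : Type u} [CommRing T] [Algebra R T] (J : Ideal T) (ψ : S →ₐ[R] T ⧸ J)

theorem exists_liftRing_data [Nontrivial T] (hJ : J ^ 2 = ⊥) {k : ℕ}
    (hk : ∀ x ∈ maximalIdeal S ^ k, ψ x = 0) :
    ∃ (_ : IsLocalRing (liftRing J ψ)) (_ : IsLocalHom (algebraMap R (liftRing J ψ)))
      (_ : IsLocalRing (liftRing J ψ ⧸ J.comap (liftRing J ψ).val))
      (ψ' : S →ₐ[R] liftRing J ψ ⧸ J.comap (liftRing J ψ).val) (_ : IsLocalHom ψ'.toRingHom),
      Function.Surjective ψ' ∧ (J.comap (liftRing J ψ).val) ^ 2 = ⊥ ∧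
      maximalIdeal (liftRing J ψ) ^ (k + k) = ⊥ ∧
      (∀ y : liftRing J ψ, y ∈ maximalIdeal (liftRing J ψ) →
        ∃ s ∈ maximalIdeal S, Ideal.Quotient.mk J (y : T) = ψ s) ∧
      (∀ χ : S →ₐ[R] liftRing J ψ, (Ideal.Quotient.mkₐ R _).comp χ = ψ' →
        (Ideal.Quotient.mkₐ R J).comp ((liftRing J ψ).val.comp χ) = ψ) := by
  classical
  let E := liftRing J ψ
  let J' : Ideal E := J.comap E.val
  have hsq : J' ^ 2 = ⊥ := by
    rw [eq_bot_iff, pow_two, Ideal.mul_le]
    intro a ha b hb
    have := Ideal.mul_mem_mul (show (a : T) ∈ J from ha) (show (b : T) ∈ J from hb)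
    rw [← pow_two, hJ, Ideal.mem_bot] at this
    exact Ideal.mem_bot.2 (Subtype.ext this)
  have hJne : J ≠ ⊤ := fun h => by
    rw [h, Ideal.top_pow] at hJ
    exact top_ne_bot hJ
  haveI : Nontrivial (T ⧸ J) := Ideal.Quotient.nontrivial_iff.2 hJne
  have hlift : ∀ s : S, ∃ y : E, Ideal.Quotient.mk J (y : T) = ψ s := fun s => by
    obtain ⟨t, ht⟩ := Ideal.Quotient.mk_surjective (ψ s)
    exact ⟨⟨t, ⟨s, ht.symm⟩⟩, ht⟩
  choose l hl using hlift
  let φ : S →ₐ[R] E ⧸ J' :=
    { toFun := fun s => Ideal.Quotient.mk J' (l s)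
      map_one' := Ideal.Quotient.eq.2 (show (l 1 : T) - 1 ∈ J from
        Ideal.Quotient.eq.1 ((hl 1).trans ((map_one ψ).trans (map_one (Ideal.Quotient.mk J)).symm)))
      map_mul' := fun a b => by
        rw [← map_mul]
        refine Ideal.Quotient.eq.2 (Ideal.Quotient.eq.1 ?_ : (l (a * b) : T) - (l a : T) * (l b : T) ∈ J)
        rw [hl, map_mul, map_mul, hl, hl]
      map_zero' := Ideal.Quotient.eq_zero_iff_mem.2
        (Ideal.Quotient.eq_zero_iff_mem.1 ((hl 0).trans (map_zero ψ)) : (l 0 : T) ∈ J)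
      map_add' := fun a b => by
        rw [← map_add]
        refine Ideal.Quotient.eq.2 (Ideal.Quotient.eq.1 ?_ : (l (a + b) : T) - ((l a : T) + (l b : T)) ∈ J)
        rw [hl, map_add, map_add, hl, hl]
      commutes' := fun r => by
        refine Ideal.Quotient.eq.2 (Ideal.Quotient.eq.1 ?_ : (l (algebraMap R S r) : T) - algebraMap R T r ∈ J)
        rw [hl, ψ.commutes]
        rfl }
  have hφs : Function.Surjective φ := fun z => by
    obtain ⟨y, rfl⟩ := Ideal.Quotient.mk_surjective z
    obtain ⟨s, hs⟩ := y.2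
    exact ⟨s, Ideal.Quotient.eq.2 (Ideal.Quotient.eq.1 ((hl s).trans hs) : (l s : T) - (y : T) ∈ J)⟩
  have hunit : ∀ y : E, ∀ s : S, Ideal.Quotient.mk J (y : T) = ψ s → IsUnit s → IsUnit y := fun y s hy hs => by
    have h1 : IsUnit (Ideal.Quotient.mk J' y) := by
      have : φ s = Ideal.Quotient.mk J' y :=
        Ideal.Quotient.eq.2 (Ideal.Quotient.eq.1 ((hl s).trans hy.symm) : (l s : T) - (y : T) ∈ J)
      exact this ▸ hs.map φ
    exact (IsNilpotent.isUnit_quotient_mk_iff ⟨2, hsq⟩).1 h1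
  haveI hEloc : IsLocalRing E := IsLocalRing.of_nonunits_add fun a b ha hb => by
    obtain ⟨s, hs⟩ := a.2
    obtain ⟨t, ht⟩ := b.2
    intro hab
    have hs' : s ∈ maximalIdeal S := fun h => ha (hunit a s hs.symm h)
    have ht' : t ∈ maximalIdeal S := fun h => hb (hunit b t ht.symm h)
    have h1 := (maximalIdeal S).add_mem hs' ht'
    have hk' : ψ (s + t) ^ k = 0 := by
      rw [← map_pow]; exact hk _ (Ideal.pow_mem_pow h1 k)
    have hu : IsUnit (Ideal.Quotient.mk J ((a + b : E) : T)) := (hab.map E.val).map (Ideal.Quotient.mk J)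
    have heq : Ideal.Quotient.mk J ((a + b : E) : T) = ψ (s + t) := by
      rw [map_add ψ]
      exact (map_add _ _ _).trans (congrArg₂ (· + ·) hs.symm ht.symm)
    rw [heq] at hu
    exact not_isUnit_zero (hk' ▸ hu.pow k)
  have hmax : ∀ y : E, y ∈ maximalIdeal E → ∃ s ∈ maximalIdeal S, Ideal.Quotient.mk J (y : T) = ψ s := fun y hy => by
    obtain ⟨s, hs⟩ := y.2
    exact ⟨s, fun h => hy (hunit y s hs.symm h), hs.symm⟩
  have hpow : ∀ i, ∀ y ∈ maximalIdeal E ^ i, ∃ s ∈ maximalIdeal S ^ i, Ideal.Quotient.mk J (y : T) = ψ s := by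
    intro i
    induction i with
    | zero =>
      intro y _
      obtain ⟨s, hs⟩ := y.2
      exact ⟨s, by rw [pow_zero, Ideal.one_eq_top]; trivial, hs.symm⟩
    | succ i ih =>
      intro y hy
      rw [pow_succ] at hy
      refine Submodule.mul_induction_on hy (fun a ha b hb => ?_) (fun a b ha hb => ?_)
      · obtain ⟨s, hs, hs'⟩ := ih a ha
        obtain ⟨t, ht, ht'⟩ := hmax b hb
        exact ⟨s * t, by rw [pow_succ]; exact Ideal.mul_mem_mul hs ht, by
          rw [map_mul ψ, ← hs', ← ht', ← map_mul]; rfl⟩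
      · obtain ⟨s, hs, hs'⟩ := ha
        obtain ⟨t, ht, ht'⟩ := hb
        exact ⟨s + t, add_mem hs ht, by rw [map_add ψ, ← hs', ← ht', ← map_add]; rfl⟩
  have hnil : maximalIdeal E ^ (k + k) = ⊥ := by
    have hle : maximalIdeal E ^ k ≤ J' := fun y hy => by
      obtain ⟨s, hs, hs'⟩ := hpow k y hy
      exact (show (y : T) ∈ J from Ideal.Quotient.eq_zero_iff_mem.1 (hs'.trans (hk s hs)))
    rw [eq_bot_iff, ← hsq, pow_add, pow_two]
    exact Ideal.mul_mono hle hle
  haveI hRE : IsLocalHom (algebraMap R E) := ⟨fun r hr => by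
    refine isUnit_of_map_unit (algebraMap R S) r ?_
    by_contra h
    have h1 : ψ (algebraMap R S r) ^ k = 0 := by rw [← map_pow]; exact hk _ (Ideal.pow_mem_pow h k)
    rw [ψ.commutes] at h1
    have hu : IsUnit (algebraMap R (T ⧸ J) r) := (hr.map E.val).map (Ideal.Quotient.mk J)
    exact not_isUnit_zero (h1 ▸ hu.pow k)⟩
  haveI : Nontrivial (E ⧸ J') := Ideal.Quotient.nontrivial_iff.2 fun h => hJne
    ((Ideal.eq_top_iff_one J).2 ((Ideal.eq_top_iff_one J').1 h))
  haveI hQ : IsLocalRing (E ⧸ J') := IsLocalRing.of_surjective' _ Ideal.Quotient.mk_surjective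
  haveI hφl : IsLocalHom φ.toRingHom := IsLocalHom.of_surjective _ hφs
  refine ⟨hEloc, hRE, hQ, φ, hφl, hφs, hsq, hnil, hmax, fun χ hχ => AlgHom.ext fun s => ?_⟩
  have h1 : Ideal.Quotient.mk J' (χ s) = Ideal.Quotient.mk J' (l s) := AlgHom.congr_fun hχ s
  exact (Ideal.Quotient.eq.2 (show (χ s : T) - (l s : T) ∈ J from (Ideal.Quotient.eq (I := J')).1 h1)).trans (hl s)

theorem residueField_bijective {A : Type u} [CommRing A] [IsLocalRing A] (f : S →+* A) [IsLocalHom f]
    (hf : Function.Surjective f) : Function.Bijective (ResidueField.map f) := by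
  refine ⟨RingHom.injective _, fun z => ?_⟩
  obtain ⟨a, rfl⟩ := residue_surjective z
  obtain ⟨s, rfl⟩ := hf a
  exact ⟨residue S s, rfl⟩

/-- Formal smoothness is detected on local test rings with nilpotent maximal ideal. -/
theorem iff_lift_local :
    CAlgX.IsAdicFormallySmooth R S (maximalIdeal S) ↔
      ∀ (A : Type u) [CommRing A] [IsLocalRing A] [Algebra R A] [IsLocalHom (algebraMap R A)]
        (J : Ideal A), J ^ 2 = ⊥ → (∃ n : ℕ, maximalIdeal A ^ n = ⊥) →
        ∀ [IsLocalRing (A ⧸ J)] (ψ : S →ₐ[R] A ⧸ J) [IsLocalHom ψ.toRingHom],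
          Function.Bijective (ResidueField.map ψ.toRingHom) →
          ∃ χ : S →ₐ[R] A, (Ideal.Quotient.mkₐ R J).comp χ = ψ := by
  constructor
  · intro h A _ _ _ _ J hJ ⟨n, hn⟩ _ ψ _ _
    refine h A J hJ ψ ⟨n, fun x hx => ?_⟩
    haveI : IsLocalHom (Ideal.Quotient.mk J) := IsLocalHom.of_surjective _ Ideal.Quotient.mk_surjective
    have hmQ : maximalIdeal (A ⧸ J) ≤ (maximalIdeal A).map (Ideal.Quotient.mk J) := fun z hz => by
      obtain ⟨a, rfl⟩ := Ideal.Quotient.mk_surjective z
      exact Ideal.mem_map_of_mem _ fun hu => hz (hu.map _)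
    have h1 := Ideal.mem_map_of_mem ψ.toRingHom hx
    rw [Ideal.map_pow] at h1
    have h2 := Ideal.pow_right_mono ((IsLocalRing.map_maximalIdeal_le ψ.toRingHom).trans hmQ) n h1
    rw [← Ideal.map_pow, hn, Ideal.map_bot, Ideal.mem_bot] at h2
    exact h2
  · intro h T _ _ J hJ ψ ⟨k, hk⟩
    rcases subsingleton_or_nontrivial T with hT | hT
    · refine ⟨{
        toFun := fun _ => 0
        map_one' := Subsingleton.elim _ _
        map_mul' := fun _ _ => Subsingleton.elim _ _
        map_zero' := rfl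
        map_add' := fun _ _ => Subsingleton.elim _ _
        commutes' := fun _ => Subsingleton.elim _ _ }, ?_⟩
      haveI : Subsingleton (T ⧸ J) := Ideal.Quotient.mk_surjective.subsingleton
      exact AlgHom.ext fun _ => Subsingleton.elim _ _
    obtain ⟨_, _, _, ψ', _, hs, hsq, hnil, -, hback⟩ := exists_liftRing_data J ψ hJ hk
    obtain ⟨χ, hχ⟩ := h (liftRing J ψ) _ hsq ⟨k + k, hnil⟩ ψ'
      (residueField_bijective ψ'.toRingHom hs)
    exact ⟨(liftRing J ψ).val.comp χ, hback χ hχ⟩

variable [IsNoetherianRing S]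

/-- Lifting along extensions by a vector space from lifting along small extensions. -/
theorem lift_of_smul_eq_zero
    (h : ∀ (A : Type u) [CommRing A] [IsLocalRing A] [IsArtinianRing A] [Algebra R A]
        [IsLocalHom (algebraMap R A)] (J : Ideal A), J ^ 2 = ⊥ → Module.length A J = 1 →
        ∀ [IsLocalRing (A ⧸ J)] (ψ : S →ₐ[R] A ⧸ J) [IsLocalHom ψ.toRingHom],
          Function.Bijective (ResidueField.map ψ.toRingHom) →
          ∃ χ : S →ₐ[R] A, (Ideal.Quotient.mkₐ R J).comp χ = ψ)
    {A : Type u} [CommRing A] [IsLocalRing A] [Algebra R A] [IsLocalHom (algebraMap R A)]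
    (J : Ideal A) (hmJ : ∀ a ∈ maximalIdeal A, ∀ j ∈ J, a * j = 0) {n : ℕ} (hn : maximalIdeal A ^ n = ⊥)
    [IsLocalRing (A ⧸ J)] (ψ : S →ₐ[R] A ⧸ J) [IsLocalHom ψ.toRingHom] (hψ : Function.Surjective ψ) :
    ∃ χ : S →ₐ[R] A, (Ideal.Quotient.mkₐ R J).comp χ = ψ := by
  classical
  let K := ResidueField A
  have htor : Module.IsTorsionBySet A J (maximalIdeal A : Set A) := fun j a =>
    Subtype.ext (hmJ a.1 a.2 j.1 j.2)
  letI : Module K J := Module.IsTorsionBySet.module htor
  haveI : IsScalarTower A K J := IsScalarTower.of_algebraMap_smul fun _ _ => rfl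
  have hsm : ∀ (a : A) (j : J), residue A a • j = a • j := fun _ _ => rfl
  let b := Module.Basis.ofVectorSpace K J
  let ι := Module.Basis.ofVectorSpaceIndex K J
  have hJle : J ≤ maximalIdeal A :=
    le_maximalIdeal (Ideal.Quotient.nontrivial_iff.1 (inferInstance : Nontrivial (A ⧸ J)))
  have hJJ : ∀ x ∈ J, ∀ y ∈ J, x * y = 0 := fun x hx y hy => hmJ x (hJle hx) y hy
  let co : J →ₗ[K] (ι → K) := LinearMap.pi fun i => b.coord i
  have hco : LinearMap.ker co = ⊥ := by
    rw [LinearMap.ker_eq_bot']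
    exact fun j hj => b.ext_elem_iff.2 fun i => by simpa [co] using congrFun hj i
  obtain ⟨r, hr⟩ := LinearMap.exists_leftInverse_of_injective co hco
  haveI : IsArtinianRing (A ⧸ J) := by
    haveI : IsNoetherianRing (A ⧸ J) := isNoetherianRing_of_surjective _ _ ψ.toRingHom hψ
    haveI : IsLocalHom (Ideal.Quotient.mk J) := IsLocalHom.of_surjective _ Ideal.Quotient.mk_surjective
    rw [isArtinianRing_iff_isNilpotent_maximalIdeal]
    refine ⟨n, ?_⟩
    have : maximalIdeal (A ⧸ J) ≤ (maximalIdeal A).map (Ideal.Quotient.mk J) := fun z hz => by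
      obtain ⟨a, rfl⟩ := Ideal.Quotient.mk_surjective z
      exact Ideal.mem_map_of_mem _ fun hu => hz (hu.map _)
    rw [Ideal.zero_eq_bot, eq_bot_iff]
    refine (Ideal.pow_right_mono this n).trans ?_
    rw [← Ideal.map_pow, hn, Ideal.map_bot]
  choose a ha using fun s => Ideal.Quotient.mk_surjective (ψ s)
  have step : ∀ i : ι, ∃ c : S → K, (c 1 + co ⟨a 1 - 1, Ideal.Quotient.eq.1 ((ha 1).trans ((map_one ψ).trans (map_one _).symm))⟩ i = 0) ∧
      (∀ s t, ∀ hd : a s + a t - a (s + t) ∈ J, c (s + t) = c s + c t + co ⟨_, hd⟩ i) ∧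
      (∀ s t, ∀ hd : a s * a t - a (s * t) ∈ J,
        c (s * t) = residue A (a s) * c t + residue A (a t) * c s + co ⟨_, hd⟩ i) ∧
      (∀ x, ∀ hd : algebraMap R A x - a (algebraMap R S x) ∈ J, c (algebraMap R S x) = co ⟨_, hd⟩ i) := by
    intro i
    let W : Ideal A := Submodule.map J.subtype ((LinearMap.ker (b.coord i)).restrictScalars A)
    have hWJ : W ≤ J := Submodule.map_subtype_le _ _
    have hW : ∀ j : J, (j : A) ∈ W ↔ b.coord i j = 0 := fun j => by
      constructor
      · rintro ⟨j', hj', he⟩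
        exact (Subtype.ext he : j' = j) ▸ hj'
      · exact fun hj => ⟨j, hj, rfl⟩
    let Q := A ⧸ W
    let J' : Ideal Q := J.map (Ideal.Quotient.mk W)
    haveI : Nontrivial Q := Ideal.Quotient.nontrivial_iff.2
      (ne_top_of_le_ne_top (maximalIdeal.isMaximal A).ne_top (hWJ.trans hJle))
    haveI : IsLocalRing Q := IsLocalRing.of_surjective' _ Ideal.Quotient.mk_surjective
    haveI : IsLocalHom (Ideal.Quotient.mk W) := IsLocalHom.of_surjective _ Ideal.Quotient.mk_surjective
    haveI : IsLocalHom (algebraMap R Q) := by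
      rw [IsScalarTower.algebraMap_eq R A Q]
      exact RingHom.isLocalHom_comp _ _
    have hJ'2 : J' ^ 2 = ⊥ := by
      rw [← Ideal.map_pow, eq_bot_iff, Ideal.map_le_iff_le_comap, pow_two, Ideal.mul_le]
      intro x hx y hy
      rw [Ideal.mem_comap, hJJ x hx y hy, map_zero]
      exact zero_mem _
    let e : (Q ⧸ J') ≃ₐ[R] A ⧸ J :=
      (DoubleQuot.quotQuotEquivQuotSupₐ R W J).trans (Ideal.quotientEquivAlgOfEq R (sup_eq_right.2 hWJ))
    have he : ∀ x : A, e (Ideal.Quotient.mk J' (Ideal.Quotient.mk W x)) = Ideal.Quotient.mk J x := fun x => rfl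
    let θ : J →ₗ[A] J' :=
      { toFun := fun j => ⟨Ideal.Quotient.mk W j, Ideal.mem_map_of_mem _ j.2⟩
        map_add' := fun x y => Subtype.ext (map_add (Ideal.Quotient.mk W) _ _)
        map_smul' := fun x y => Subtype.ext (map_mul (Ideal.Quotient.mk W) _ _) }
    have hlen : Module.length Q J' = 1 := by
      have hsurj : ∀ z ∈ J', ∃ j : J, Ideal.Quotient.mk W (j : A) = z := fun z hz => by
        obtain ⟨x, hx, hxz⟩ := (Ideal.mem_map_iff_of_surjective _ Ideal.Quotient.mk_surjective).1 hz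
        exact ⟨⟨x, hx⟩, hxz⟩
      rw [Module.length_eq_one_iff, isSimpleModule_iff]
      haveI : Nontrivial J' := by
        refine ⟨⟨θ (b i), 0, fun h0 => ?_⟩⟩
        have h1 := (hW (b i)).1 (Ideal.Quotient.eq_zero_iff_mem.1 (congrArg Subtype.val h0))
        simp at h1
      refine IsSimpleOrder.mk fun N => ?_
      by_cases hN : N = ⊥
      · exact Or.inl hN
      refine Or.inr (eq_top_iff.2 fun z _ => ?_)
      obtain ⟨w, hw, hw0⟩ := N.ne_bot_iff.1 hN
      obtain ⟨jw, hjw⟩ := hsurj w.1 w.2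
      obtain ⟨jz, hjz⟩ := hsurj z.1 z.2
      have hcw : b.coord i jw ≠ 0 := fun h0 => hw0 (Subtype.ext (by
        rw [← hjw, Ideal.Quotient.eq_zero_iff_mem.2 ((hW jw).2 h0)]; rfl))
      obtain ⟨q, hq⟩ := residue_surjective (b.coord i jz / b.coord i jw)
      have hz : z = Ideal.Quotient.mk W q • w := Subtype.ext (by
        show z.1 = Ideal.Quotient.mk W q * w.1
        rw [← hjw, ← hjz, ← map_mul, Ideal.Quotient.eq]
        have h1 : b.coord i (jz - q • jw) = 0 := by
          rw [map_sub, ← hsm, map_smul, hq, smul_eq_mul, div_mul_cancel₀ _ hcw, sub_self]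
        exact (hW (jz - q • jw)).2 h1)
      rw [hz]
      exact N.smul_mem _ hw
    haveI : IsArtinianRing Q := by
      haveI : IsArtinian Q J' := (isFiniteLength_iff_isNoetherian_isArtinian.1
        ((Module.length_ne_top_iff (R := Q) (M := J')).1 (by rw [hlen]; exact ENat.one_ne_top))).2
      haveI : IsArtinianRing (Q ⧸ J') := e.symm.toRingEquiv.isArtinianRing
      haveI : IsArtinian Q (Q ⧸ J') := isArtinian_of_surjective_algebraMap (R := Q ⧸ J') (M := Q ⧸ J') (S := Q) Ideal.Quotient.mk_surjective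
      exact isArtinian_of_range_eq_ker J'.subtype J'.mkQ (by simp)
    haveI : IsLocalRing (Q ⧸ J') := e.symm.toRingEquiv.isLocalRing
    let ψi : S →ₐ[R] Q ⧸ J' := e.symm.toAlgHom.comp ψ
    have hψi : Function.Surjective ψi.toRingHom := e.symm.surjective.comp hψ
    haveI : IsLocalHom ψi.toRingHom := IsLocalHom.of_surjective _ hψi
    obtain ⟨g, hg⟩ := h Q J' hJ'2 hlen ψi (residueField_bijective _ hψi)
    have hj : ∀ s, ∃ j : J, g s = Ideal.Quotient.mk W (a s + j) := fun s => by
      have h1 : g s - Ideal.Quotient.mk W (a s) ∈ J' := by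
        rw [← Ideal.Quotient.eq]
        have h2 : Ideal.Quotient.mk J' (g s) = e.symm (ψ s) := AlgHom.congr_fun hg s
        rw [h2, AlgEquiv.symm_apply_eq, he, ha]
      obtain ⟨x, hx, hx'⟩ := (Ideal.mem_map_iff_of_surjective _ Ideal.Quotient.mk_surjective).1 h1
      exact ⟨⟨x, hx⟩, by rw [map_add, hx']; ring⟩
    choose j hj using hj
    have huniq : ∀ x y : J, Ideal.Quotient.mk W (x : A) = Ideal.Quotient.mk W (y : A) → co x i = co y i := fun x y hxy => by
      have := (hW (x - y)).1 (Ideal.Quotient.eq.1 hxy)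
      rw [map_sub, sub_eq_zero] at this
      simpa [co] using this
    refine ⟨fun s => co (j s) i, ?_, fun s t hd => ?_, fun s t hd => ?_, fun x hd => ?_⟩
    · rw [← Pi.add_apply, ← map_add, ← Pi.zero_apply (M := fun _ => K) i, ← map_zero co]
      refine huniq _ _ ?_
      have := hj 1
      rw [map_one g] at this
      simp only [Submodule.coe_add, ZeroMemClass.coe_zero]
      rw [show ((j 1 : A) + (a 1 - 1)) = (a 1 + j 1) - 1 by ring, map_sub, ← this, map_one, sub_self, map_zero]
    · rw [← Pi.add_apply, ← map_add, ← Pi.add_apply, ← map_add]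
      refine huniq _ _ ?_
      have := hj (s + t)
      rw [map_add g, hj s, hj t, ← map_add] at this
      simp only [Submodule.coe_add]
      rw [show ((j s : A) + j t + (a s + a t - a (s + t))) = (a s + j s + (a t + j t)) - a (s + t) by ring,
        map_sub, this, ← map_sub, add_sub_cancel_left]
    · have hs1 : ∀ (x : A) (y : J), residue A x * co y i = co (x • y) i := fun x y => by
        rw [← hsm, map_smul, Pi.smul_apply, smul_eq_mul]
      rw [hs1, hs1, ← Pi.add_apply, ← map_add, ← Pi.add_apply, ← map_add]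
      refine huniq _ _ ?_
      have := hj (s * t)
      rw [map_mul g, hj s, hj t, ← map_mul] at this
      simp only [Submodule.coe_add, SetLike.val_smul, smul_eq_mul]
      rw [show (a s * (j t : A) + a t * j s + (a s * a t - a (s * t))) =
          (a s + j s) * (a t + j t) - (j s : A) * j t - a (s * t) by ring,
        hJJ _ (j s).2 _ (j t).2, sub_zero, map_sub, this, ← map_sub, add_sub_cancel_left]
    · refine huniq _ _ ?_
      have := hj (algebraMap R S x)
      rw [AlgHom.commutes] at this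
      rw [map_sub, show Ideal.Quotient.mk W (algebraMap R A x) = algebraMap R Q x from rfl, this, map_add]
      ring
  choose c hc1 hcadd hcmul hcalg using step
  let d : S → J := fun s => r (fun i => c i s)
  have hrco : ∀ x, r (co x) = x := fun x => LinearMap.congr_fun hr x
  have h1J : a 1 - 1 ∈ J := Ideal.Quotient.eq.1 ((ha 1).trans ((map_one ψ).trans (map_one _).symm))
  have h1 : a 1 + d 1 = 1 := by
    have : d 1 + ⟨a 1 - 1, h1J⟩ = 0 := by
      rw [← hrco ⟨a 1 - 1, h1J⟩, ← map_add, ← map_zero r]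
      exact congrArg r (funext fun i => hc1 i)
    have h2 := congrArg (Subtype.val : J → A) this
    simp only [Submodule.coe_add, ZeroMemClass.coe_zero] at h2
    linear_combination h2
  have hadd : ∀ s t, a (s + t) + (d (s + t) : A) = a s + d s + (a t + d t) := fun s t => by
    have hd : a s + a t - a (s + t) ∈ J := Ideal.Quotient.eq.1 (by rw [map_add, ha, ha, ha, map_add])
    have : d (s + t) = d s + d t + ⟨_, hd⟩ := by
      rw [← hrco ⟨_, hd⟩, ← map_add, ← map_add]
      exact congrArg r (funext fun i => hcadd i s t hd)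
    rw [this]
    simp only [Submodule.coe_add]
    ring
  have hmul : ∀ s t, a (s * t) + (d (s * t) : A) = (a s + d s) * (a t + d t) := fun s t => by
    have hd : a s * a t - a (s * t) ∈ J := Ideal.Quotient.eq.1 (by rw [map_mul, ha, ha, ha, map_mul])
    have : d (s * t) = a s • d t + a t • d s + ⟨_, hd⟩ := by
      rw [← hrco ⟨_, hd⟩, ← hsm, ← hsm, ← map_smul, ← map_smul, ← map_add, ← map_add]
      exact congrArg r (funext fun i => hcmul i s t hd)
    rw [this]
    simp only [Submodule.coe_add, SetLike.val_smul, smul_eq_mul]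
    linear_combination (-1 : A) * hJJ _ (d s).2 _ (d t).2
  have halg : ∀ x, a (algebraMap R S x) + (d (algebraMap R S x) : A) = algebraMap R A x := fun x => by
    have hd : algebraMap R A x - a (algebraMap R S x) ∈ J :=
      Ideal.Quotient.eq.1 (by rw [ha, ψ.commutes]; rfl)
    have : d (algebraMap R S x) = ⟨_, hd⟩ := by
      rw [← hrco ⟨_, hd⟩]
      exact congrArg r (funext fun i => hcalg i x hd)
    rw [this]
    show a (algebraMap R S x) + (algebraMap R A x - a (algebraMap R S x)) = _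
    ring
  refine ⟨{ toFun := fun s => a s + d s, map_one' := h1, map_mul' := hmul,
            map_zero' := ?_, map_add' := hadd, commutes' := halg }, AlgHom.ext fun s => ?_⟩
  · have := halg 0
    rwa [map_zero, map_zero] at this
  · show Ideal.Quotient.mk J (a s + d s) = ψ s
    rw [map_add, ha, Ideal.Quotient.eq_zero_iff_mem.2 (d s).2, add_zero]

/-- Formal smoothness is detected by small extensions. -/
theorem iff_lift_small :
    CAlgX.IsAdicFormallySmooth R S (maximalIdeal S) ↔
      ∀ (A : Type u) [CommRing A] [IsLocalRing A] [IsArtinianRing A] [Algebra R A]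
        [IsLocalHom (algebraMap R A)] (J : Ideal A), J ^ 2 = ⊥ → Module.length A J = 1 →
        ∀ [IsLocalRing (A ⧸ J)] (ψ : S →ₐ[R] A ⧸ J) [IsLocalHom ψ.toRingHom],
          Function.Bijective (ResidueField.map ψ.toRingHom) →
          ∃ χ : S →ₐ[R] A, (Ideal.Quotient.mkₐ R J).comp χ = ψ := by
  constructor
  · intro h A _ _ _ _ _ J hJ _ _ ψ _ hb
    exact iff_lift_local.1 h A J hJ
      ((isArtinianRing_iff_isNilpotent_maximalIdeal A).1 ‹_›) ψ hb
  intro h T _ _ J hJ ψ hψ
  obtain ⟨k, hk⟩ := hψ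
  -- the ideal of elements reducing into the image of the maximal ideal
  let N : Ideal T := ((maximalIdeal S).map ψ.toRingHom).comap (Ideal.Quotient.mk J)
  have hN : N ^ k ≤ J := by
    intro x hx
    have h1 := Ideal.mem_map_of_mem (Ideal.Quotient.mk J) hx
    rw [Ideal.map_pow] at h1
    have h2 := Ideal.pow_right_mono Ideal.map_comap_le k h1
    rw [← Ideal.map_pow] at h2
    have h3 : (maximalIdeal S ^ k).map ψ.toRingHom ≤ ⊥ := Ideal.map_le_iff_le_comap.2 fun y hy => by
      rw [Ideal.mem_comap, Ideal.mem_bot]; exact hk y hy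
    exact Ideal.Quotient.eq_zero_iff_mem.1 ((Submodule.mem_bot _).1 (h3 h2))
  have hNJ : N ^ k * J = ⊥ := by
    rw [eq_bot_iff, ← hJ, pow_two]
    exact Ideal.mul_mono_left hN
  have hle : ∀ i, N ^ i * J ≤ J := fun i => Ideal.mul_le_right
  -- successive lifts
  have key : ∀ i, ∃ φ : S →ₐ[R] T ⧸ (N ^ i * J), (Ideal.Quotient.factorₐ R (hle i)).comp φ = ψ := by
    intro i
    induction i with
    | zero =>
      have he : J = N ^ 0 * J := by rw [pow_zero, one_mul]
      refine ⟨(Ideal.quotientEquivAlgOfEq R he).toAlgHom.comp ψ, AlgHom.ext fun s => ?_⟩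
      obtain ⟨t, ht⟩ := Ideal.Quotient.mk_surjective (ψ s)
      simp only [AlgHom.comp_apply, ← ht]
      rfl
    | succ i ih =>
      obtain ⟨φ, hφ⟩ := ih
      let I₁ := N ^ (i + 1) * J
      have h01 : I₁ ≤ N ^ i * J := Ideal.mul_mono_left (Ideal.pow_le_pow_right (Nat.le_succ i))
      let T₁ := T ⧸ I₁
      let J₁ : Ideal T₁ := (N ^ i * J).map (Ideal.Quotient.mk I₁)
      let e : (T₁ ⧸ J₁) ≃ₐ[R] T ⧸ (N ^ i * J) :=
        (DoubleQuot.quotQuotEquivQuotSupₐ R I₁ (N ^ i * J)).trans (Ideal.quotientEquivAlgOfEq R (sup_eq_right.2 h01))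
      have he : ∀ x : T, e (Ideal.Quotient.mk J₁ (Ideal.Quotient.mk I₁ x)) = Ideal.Quotient.mk _ x := fun x => rfl
      have hJ₁ : J₁ ^ 2 = ⊥ := by
        rw [← Ideal.map_pow, eq_bot_iff]
        refine (Ideal.map_mono ((Ideal.pow_right_mono (hle i) 2).trans hJ.le)).trans ?_
        rw [Ideal.map_bot]
      let ψ₁ : S →ₐ[R] T₁ ⧸ J₁ := e.symm.toAlgHom.comp φ
      have hψ₁ : ∀ x ∈ maximalIdeal S ^ (k + k), ψ₁ x = 0 := by
        have hJφ : ∀ y ∈ maximalIdeal S ^ k, φ y ∈ J.map (Ideal.Quotient.mk (N ^ i * J)) := fun y hy => by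
          obtain ⟨t, ht⟩ := Ideal.Quotient.mk_surjective (φ y)
          rw [← ht]
          refine Ideal.mem_map_of_mem _ (Ideal.Quotient.eq_zero_iff_mem.1 ?_)
          have h1 := (AlgHom.congr_fun hφ y).trans (hk y hy)
          rw [AlgHom.comp_apply, ← ht] at h1
          exact h1
        intro x hx
        show e.symm (φ x) = 0
        rw [map_eq_zero_iff _ e.symm.injective]
        rw [pow_add] at hx
        refine Submodule.mul_induction_on hx (fun a ha b hb => ?_) (fun a b ha hb => by rw [map_add, ha, hb, add_zero])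
        have := Ideal.mul_mem_mul (hJφ a ha) (hJφ b hb)
        rw [← pow_two, ← Ideal.map_pow, hJ, Ideal.map_bot, Ideal.mem_bot] at this
        rw [map_mul, this]
      rcases subsingleton_or_nontrivial T₁ with hT₁ | hT₁
      · haveI : Subsingleton (T ⧸ (N ^ (i + 1) * J)) := hT₁
        refine ⟨{
          toFun := fun _ => 0
          map_one' := Subsingleton.elim _ _
          map_mul' := fun _ _ => Subsingleton.elim _ _
          map_zero' := rfl
          map_add' := fun _ _ => Subsingleton.elim _ _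
          commutes' := fun _ => Subsingleton.elim _ _ }, ?_⟩
        haveI : Subsingleton (T ⧸ J) :=
          (Ideal.Quotient.factor_surjective (hle (i + 1))).subsingleton
        exact AlgHom.ext fun _ => Subsingleton.elim _ _
      obtain ⟨_, _, _, ψ', _, hs, hsq, hnil, hmax, hback⟩ := exists_liftRing_data J₁ ψ₁ hJ₁ hψ₁
      have hkill : ∀ y ∈ maximalIdeal (liftRing J₁ ψ₁), ∀ z ∈ J₁.comap (liftRing J₁ ψ₁).val, y * z = 0 := by
        intro y hy z hz
        obtain ⟨s, hs', hys⟩ := hmax y hy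
        obtain ⟨t, ht⟩ := Ideal.Quotient.mk_surjective (y : T₁)
        have htN : t ∈ N := by
          have h1 : Ideal.Quotient.mk (N ^ i * J) t = φ s := by
            rw [← he t, ht, hys]; exact e.apply_symm_apply _
          have h2 : Ideal.Quotient.mk J t = ψ s := by
            have h3 := congrArg (Ideal.Quotient.factorₐ R (hle i)) h1
            exact h3.trans (AlgHom.congr_fun hφ s)
          show Ideal.Quotient.mk J t ∈ (maximalIdeal S).map ψ.toRingHom
          rw [h2]
          exact Ideal.mem_map_of_mem ψ.toRingHom hs'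
        obtain ⟨w, hw, hwz⟩ := (Ideal.mem_map_iff_of_surjective _ Ideal.Quotient.mk_surjective).1
          (show (z : T₁) ∈ J₁ from hz)
        refine Subtype.ext ?_
        show (y : T₁) * (z : T₁) = 0
        rw [← ht, ← hwz, ← map_mul, Ideal.Quotient.eq_zero_iff_mem]
        show t * w ∈ N ^ (i + 1) * J
        rw [pow_succ', mul_assoc]
        exact Ideal.mul_mem_mul htN hw
      obtain ⟨χ, hχ⟩ := lift_of_smul_eq_zero h (A := liftRing J₁ ψ₁) _ hkill hnil ψ' hs
      have hb := hback χ hχ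
      refine ⟨(liftRing J₁ ψ₁).val.comp χ, AlgHom.ext fun s => ?_⟩
      obtain ⟨t, ht⟩ := Ideal.Quotient.mk_surjective (((liftRing J₁ ψ₁).val.comp χ) s)
      have h1 : Ideal.Quotient.mk (N ^ i * J) t = φ s := by
        have h2 := AlgHom.congr_fun hb s
        rw [AlgHom.comp_apply, ← ht] at h2
        have h3 := congrArg e h2
        exact (he t).symm.trans (h3.trans (e.apply_symm_apply _))
      rw [AlgHom.comp_apply, ← ht]
      have h3 := congrArg (Ideal.Quotient.factorₐ R (hle i)) h1
      exact h3.trans (AlgHom.congr_fun hφ s)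
  obtain ⟨φ, hφ⟩ := key k
  let back : T ⧸ (N ^ k * J) →ₐ[R] T := Ideal.Quotient.liftₐ _ (AlgHom.id R T) fun x hx => by
    rw [hNJ, Ideal.mem_bot] at hx; exact hx
  refine ⟨back.comp φ, AlgHom.ext fun s => ?_⟩
  obtain ⟨t, ht⟩ := Ideal.Quotient.mk_surjective (φ s)
  rw [← AlgHom.congr_fun hφ s, AlgHom.comp_apply, AlgHom.comp_apply, AlgHom.comp_apply, ← ht]
  rfl

end Groth.Agent.AdicFS
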