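import Groth.Agent.JacobianLib.Adic
import Mathlib

/-!
For a finitely generated algebra over a Noetherian ring, smoothness at a prime is adic formal
smoothness of the local ring.
-/

set_option autoImplicit false
set_option linter.style.haveILetI false

universe u

open IsLocalRing TensorProduct KaehlerDifferential

namespace Groth.Agent.AdicFS

variable {k C : Type u} [CommRing k] [IsNoetherianRing k] [CommRing C] [Algebra k C] [Algebra.FiniteType k C]

theorem formallySmooth_iff_adic (p : Ideal C) [p.IsPrime] :
    Algebra.FormallySmooth k (Localization.AtPrime p) ↔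
      CAlgX.IsAdicFormallySmooth k (Localization.AtPrime p) (maximalIdeal (Localization.AtPrime p)) := by
  constructor
  · intro h D _ _ J hJ ψ _
    exact Algebra.FormallySmooth.comp_surjective k (Localization.AtPrime p) J hJ ψ
  · intro h
    obtain ⟨n, π, hπ⟩ := Algebra.FiniteType.iff_quotient_mvPolynomial''.1 ‹Algebra.FiniteType k C›
    let B := MvPolynomial (Fin n) k
    letI : Algebra B C := π.toRingHom.toAlgebra
    haveI : IsScalarTower k B C := .of_algebraMap_eq fun a => (π.commutes a).symm
    let q := p.comap (algebraMap B C)
    let J := RingHom.ker (algebraMap B C)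
    let P := Localization.AtPrime q
    letI : Algebra P (Localization.AtPrime p) := (Localization.localRingHom _ p (algebraMap B C) rfl).toAlgebra
    obtain ⟨h1, hs, hker⟩ := JacobianLib.localization_data (R := k) (B := B) (C := C) hπ p
    haveI := h1
    haveI : IsNoetherianRing P := IsLocalization.isNoetherianRing q.primeCompl P inferInstance
    have hJq : J ≤ q := fun a ha => by
      show algebraMap B C a ∈ p
      rw [RingHom.mem_ker.1 ha]; exact p.zero_mem
    refine (JacobianLib.iff_minor q J hJq hs hker).2 (JacobianLib.exists_minor_of_indep q J hJq fun x hx hD => ?_)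
    have hmap : ∀ w ∈ q • (⊤ : Submodule B Ω[B⁄k]),
        KaehlerDifferential.map k k B P w ∈ maximalIdeal P • (⊤ : Submodule P Ω[P⁄k]) := fun w hw => by
      refine Submodule.smul_induction_on hw (fun a ha z _ => ?_) (fun a b ha hb => by rw [map_add]; exact add_mem ha hb)
      rw [map_smul, ← algebraMap_smul P a]
      exact Submodule.smul_mem_smul ((IsLocalization.AtPrime.to_map_mem_maximal_iff P q a).2 ha) Submodule.mem_top
    have h2 := JacobianLib.mem_of_adic hs h (x := algebraMap B P x)
      (hker.symm ▸ Ideal.mem_map_of_mem _ hx) (by simpa only [KaehlerDifferential.map_D] using hmap _ hD)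
    rwa [hker] at h2

end Groth.Agent.AdicFS
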