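import Groth.Prelude.Def_Found
import Groth.Agent.GeomRk.Field
import Groth.Agent.RegHomLib.Basic

/-!
Smooth algebras: flat with geometrically regular fibres.
-/

set_option autoImplicit false
universe u

open TensorProduct

namespace Groth.Agent.AdicFS

theorem geometricallyRegular_of_smooth {k C : Type u} [Field k] [CommRing C] [Algebra k C] [Algebra.Smooth k C] :
    CAlg.IsGeometricallyRegular k C := fun k' _ _ _ => RegHomLib.isRegularRing_of_smooth k' (k' ⊗[k] C)

theorem formallySmooth_of_geometricallyRegular {k C : Type u} [Field k] [CommRing C] [Algebra k C]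
    [Algebra.FiniteType k C] (h : CAlg.IsGeometricallyRegular k C) : Algebra.FormallySmooth k C := by
  haveI : Algebra.FinitePresentation k C := Algebra.FinitePresentation.of_finiteType.mp inferInstance
  refine Algebra.smoothLocus_eq_univ_iff.mp (Set.eq_univ_iff_forall.mpr fun q => ?_)
  refine GeomRk.formallySmooth_of_regOver q.asIdeal fun K _ _ hK Q _ => ?_
  haveI := h K hK
  exact IsRegularRing.isRegularLocalRing_localization Q.asIdeal

theorem smooth_iff_flat_fibres {A B : Type u} [CommRing A] [CommRing B] [Algebra A B]
    [Algebra.FinitePresentation A B] :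
    Algebra.Smooth A B ↔
      Module.Flat A B ∧ ∀ (p : Ideal A) [p.IsPrime], CAlg.IsGeometricallyRegular p.ResidueField (p.Fiber B) := by
  refine ⟨fun _ => ⟨inferInstance, fun p _ => geometricallyRegular_of_smooth⟩, fun ⟨_, h⟩ => ?_⟩
  exact Algebra.Smooth.of_formallySmooth_fiber fun I _ => formallySmooth_of_geometricallyRegular (h I)

theorem isRegularHom_of_smooth {A B : Type u} [CommRing A] [CommRing B] [Algebra A B] [Algebra.Smooth A B] :
    CAlg.IsRegularHom A B :=
  ⟨inferInstance, fun p _ => ⟨Algebra.FiniteType.isNoetherianRing p.ResidueField _, geometricallyRegular_of_smooth⟩⟩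

end Groth.Agent.AdicFS
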