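import Groth.Agent.AdicFS.SmallExt
import Groth.Agent.AdicFS.Regular
import Groth.Agent.S2471
import Groth.Prelude.Def_Found
import Mathlib

/-!
Directed colimits of smooth algebras with Noetherian fibres are regular.
-/

set_option autoImplicit false
set_option linter.style.haveILetI false
universe u

open IsLocalRing TensorProduct

namespace Groth.Agent.AdicFS

variable {R : Type u} [CommRing R] {ι : Type u} [Preorder ι] [IsDirectedOrder ι] [Nonempty ι]
  {G : ι → Type u} [∀ i, CommRing (G i)] [∀ i, Algebra R (G i)]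
  {f : ∀ i j : ι, i ≤ j → (G i →ₐ[R] G j)} [DirectedSystem G (fun i j h => f i j h)]

/-- Compatible lifts out of a directed system of formally smooth algebras along an extension by a
vector space over the residue field. -/
theorem exists_compatible_lifts (hs : ∀ i, Algebra.FormallySmooth R (G i))
    {A : Type u} [CommRing A] [IsLocalRing A] [Algebra R A] (J : Ideal A) (hJ : J ^ 2 = ⊥)
    (hmJ : ∀ a ∈ maximalIdeal A, ∀ j ∈ J, a * j = 0)
    (ψ : ∀ i, G i →ₐ[R] A ⧸ J) (hψ : ∀ i j (h : i ≤ j) (g : G i), ψ j (f i j h g) = ψ i g) :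
    ∃ χ : ∀ i, G i →ₐ[R] A,
      (∀ i j (h : i ≤ j) (g : G i), χ j (f i j h g) = χ i g) ∧
      ∀ i g, Ideal.Quotient.mk J (χ i g) = ψ i g := by
  classical
  let K := ResidueField A
  have htor : Module.IsTorsionBySet A J (maximalIdeal A : Set A) := fun j a =>
    Subtype.ext (hmJ a.1 a.2 j.1 j.2)
  letI : Module K J := Module.IsTorsionBySet.module htor
  haveI : IsScalarTower A K J := IsScalarTower.of_algebraMap_smul fun _ _ => rfl
  have hsm : ∀ (a : A) (j : J), residue A a • j = a • j := fun _ _ => rfl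
  have hJJ : ∀ x ∈ J, ∀ y ∈ J, x * y = 0 := fun x hx y hy => by
    have := Ideal.mul_mem_mul hx hy
    rwa [← pow_two, hJ, Ideal.mem_bot] at this
  choose a ha using fun x : Σ i, G i => Ideal.Quotient.mk_surjective (ψ x.1 x.2)
  let X := Σ i, G i
  let e : ∀ i, G i → (X →₀ K) := fun i g => Finsupp.single ⟨i, g⟩ 1
  have hadd : ∀ i (g h : G i), a ⟨i, g⟩ + a ⟨i, h⟩ - a ⟨i, g + h⟩ ∈ J := fun i g h =>
    Ideal.Quotient.eq.1 (by rw [map_add, ha, ha, ha, map_add])
  have hmul : ∀ i (g h : G i), a ⟨i, g⟩ * a ⟨i, h⟩ - a ⟨i, g * h⟩ ∈ J := fun i g h =>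
    Ideal.Quotient.eq.1 (by rw [map_mul, ha, ha, ha, map_mul])
  have halg : ∀ i (x : R), algebraMap R A x - a ⟨i, algebraMap R (G i) x⟩ ∈ J := fun i x =>
    Ideal.Quotient.eq.1 (by rw [ha, AlgHom.commutes]; rfl)
  have htr : ∀ i j (h : i ≤ j) (g : G i), a ⟨i, g⟩ - a ⟨j, f i j h g⟩ ∈ J := fun i j h g =>
    Ideal.Quotient.eq.1 (by rw [ha, ha]; exact (hψ i j h g).symm)
  -- the linear equations
  let E : ι → Set ((X →₀ K) × J) := fun i =>
    {z | (∃ g h : G i, z = (e i (g + h) - e i g - e i h, ⟨_, hadd i g h⟩)) ∨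
      (∃ g h : G i, z = (e i (g * h) - residue A (a ⟨i, g⟩) • e i h - residue A (a ⟨i, h⟩) • e i g, ⟨_, hmul i g h⟩)) ∨
      (∃ x : R, z = (e i (algebraMap R (G i) x), ⟨_, halg i x⟩)) ∨
      (∃ (k : ι) (hk : k ≤ i) (g : G k), z = (e i (f k i hk g) - e k g, ⟨_, htr k i hk g⟩))}
  let N : Submodule K ((X →₀ K) × J) := Submodule.span K (⋃ i, E i)
  have hfin : ∀ j0 : ι, ∃ d : (X →₀ K) →ₗ[K] J, ∀ i ≤ j0, ∀ z ∈ E i, d z.1 = z.2 := by
    intro j0
    haveI := hs j0
    let g₀ : G j0 →ₐ[R] A := Algebra.FormallySmooth.lift J ⟨2, by rw [hJ, Ideal.zero_eq_bot]⟩ (ψ j0)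
    have hg₀ : ∀ y, Ideal.Quotient.mk J (g₀ y) = ψ j0 y := fun y =>
      Algebra.FormallySmooth.mk_lift J ⟨2, by rw [hJ, Ideal.zero_eq_bot]⟩ (ψ j0) y
    have hmem : ∀ (x : X) (hx : x.1 ≤ j0), g₀ (f x.1 j0 hx x.2) - a x ∈ J := fun x hx =>
      Ideal.Quotient.eq.1 (by rw [hg₀, ha, hψ])
    let d₀ : X → J := fun x => if hx : x.1 ≤ j0 then ⟨_, hmem x hx⟩ else 0
    have hd₀ : ∀ i (g : G i) (hi : i ≤ j0), (d₀ ⟨i, g⟩ : A) = g₀ (f i j0 hi g) - a ⟨i, g⟩ := fun i g hi => by
      simp [d₀, hi]
    refine ⟨Finsupp.linearCombination K d₀, fun i hi z hz => ?_⟩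
    have hev : ∀ k (g : G k), Finsupp.linearCombination K d₀ (e k g) = d₀ ⟨k, g⟩ := fun k g => by
      simp [e]
    rcases hz with ⟨g, h, rfl⟩ | ⟨g, h, rfl⟩ | ⟨x, rfl⟩ | ⟨k, hk, g, rfl⟩
    · simp only [map_sub, hev]
      apply Subtype.ext
      simp only [AddSubgroupClass.coe_sub, hd₀ _ _ hi, map_add]
      ring
    · simp only [map_sub, map_smul, hev, hsm]
      apply Subtype.ext
      simp only [AddSubgroupClass.coe_sub, SetLike.val_smul, smul_eq_mul, hd₀ _ _ hi, map_mul]
      have h0 := hJJ _ (hmem ⟨i, g⟩ hi) _ (hmem ⟨i, h⟩ hi)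
      linear_combination h0
    · simp only [hev]
      apply Subtype.ext
      simp only [hd₀ _ _ hi, AlgHom.commutes]
    · simp only [map_sub, hev]
      apply Subtype.ext
      simp only [AddSubgroupClass.coe_sub, hd₀ _ _ hi, hd₀ _ _ (hk.trans hi)]
      rw [show f i j0 hi (f k i hk g) = f k j0 (hk.trans hi) g from
        DirectedSystem.map_map (f := fun i j h => f i j h) hk hi g]
      ring
  have hgraph : ∀ z ∈ N, z.1 = 0 → z.2 = 0 := by
    intro z hz hz0
    obtain ⟨t, ht, hzt⟩ := Submodule.mem_span_finite_of_mem_span hz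
    choose idx hidx using fun w : t => Set.mem_iUnion.1 (ht w.2)
    obtain ⟨j0, hj0⟩ := Finset.exists_le (Finset.univ.image idx)
    obtain ⟨d, hd⟩ := hfin j0
    have hle : Submodule.span K (t : Set ((X →₀ K) × J)) ≤
        LinearMap.ker (d.comp (LinearMap.fst K _ _) - LinearMap.snd K _ _) := by
      rw [Submodule.span_le]
      intro w hw
      rw [SetLike.mem_coe, LinearMap.mem_ker, LinearMap.sub_apply, LinearMap.comp_apply, sub_eq_zero]
      exact hd (idx ⟨w, hw⟩) (hj0 _ (Finset.mem_image.2 ⟨⟨w, hw⟩, Finset.mem_univ _, rfl⟩)) w (hidx ⟨w, hw⟩)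
    have h1 := hle hzt
    rw [LinearMap.mem_ker, LinearMap.sub_apply, LinearMap.comp_apply, sub_eq_zero, LinearMap.fst_apply,
      LinearMap.snd_apply, hz0, map_zero] at h1
    exact h1.symm
  obtain ⟨d, hd⟩ := LinearMap.exists_extend N.toLinearPMap.toFun
  have hdE : ∀ i, ∀ z ∈ E i, d z.1 = z.2 := fun i z hz => by
    have hzN : z ∈ N := Submodule.subset_span (Set.mem_iUnion.2 ⟨i, hz⟩)
    have hz1 : z.1 ∈ N.toLinearPMap.domain := ⟨z, hzN, rfl⟩
    have h2 : d z.1 = N.toLinearPMap ⟨z.1, hz1⟩ := LinearMap.congr_fun hd ⟨z.1, hz1⟩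
    rw [h2]
    have h3 := N.mem_graph_toLinearPMap (by exact hgraph) ⟨z.1, hz1⟩
    have h4 := hgraph _ (sub_mem h3 hzN) (sub_self _)
    exact sub_eq_zero.1 h4
  let c : ∀ i, G i → A := fun i g => a ⟨i, g⟩ + (d (e i g) : A)
  have hcadd : ∀ i (g h : G i), c i (g + h) = c i g + c i h := fun i g h => by
    have := congrArg (Subtype.val : J → A) (hdE i _ (Or.inl ⟨g, h, rfl⟩))
    simp only [map_sub, AddSubgroupClass.coe_sub] at this
    simp only [c]
    linear_combination this
  have hcmul : ∀ i (g h : G i), c i (g * h) = c i g * c i h := fun i g h => by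
    have := congrArg (Subtype.val : J → A) (hdE i _ (Or.inr (Or.inl ⟨g, h, rfl⟩)))
    simp only [map_sub, map_smul, hsm, AddSubgroupClass.coe_sub, SetLike.val_smul, smul_eq_mul] at this
    have h0 := hJJ _ (d (e i g)).2 _ (d (e i h)).2
    simp only [c]
    linear_combination this - h0
  have hcalg : ∀ i (x : R), c i (algebraMap R (G i) x) = algebraMap R A x := fun i x => by
    have := congrArg (Subtype.val : J → A) (hdE i _ (Or.inr (Or.inr (Or.inl ⟨x, rfl⟩))))
    simp only at this
    simp only [c]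
    linear_combination this
  refine ⟨fun i => {
    toFun := c i
    map_one' := by simpa only [map_one] using hcalg i 1
    map_mul' := hcmul i
    map_zero' := by simpa only [map_zero] using hcalg i 0
    map_add' := hcadd i
    commutes' := hcalg i }, fun i j h g => ?_, fun i g => ?_⟩
  · have := congrArg (Subtype.val : J → A) (hdE j _ (Or.inr (Or.inr (Or.inr ⟨i, h, g, rfl⟩))))
    simp only [map_sub, AddSubgroupClass.coe_sub] at this
    show c j (f i j h g) = c i g
    simp only [c]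
    linear_combination this
  · show Ideal.Quotient.mk J (c i g) = ψ i g
    simp only [c, map_add, ha, Ideal.Quotient.eq_zero_iff_mem.2 (d (e i g)).2, add_zero]

/-- A directed colimit of smooth algebras with Noetherian fibres is regular. -/
theorem isRegularHom_directLimit (hs : ∀ i, Algebra.Smooth R (G i))
    (hN : ∀ (p : Ideal R) [p.IsPrime], IsNoetherianRing (p.Fiber (DirectLimit G f))) :
    CAlg.IsRegularHom R (DirectLimit G f) := by
  classical
  let Λ := DirectLimit G f
  haveI : ∀ i, Algebra.Smooth R (G i) := hs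
  have hexists : ∀ x : Λ, ∃ (i : ι) (y : G i), DirectLimit.Algebra.of (R := R) G f i y = x := fun x =>
    DirectLimit.induction f (C := fun x => ∃ (i : ι) (y : G i), DirectLimit.Algebra.of (R := R) G f i y = x)
      (fun i y => ⟨i, y, rfl⟩) x
  haveI : Module.Flat R Λ := by
    rw [Module.Flat.iff_forall_isTrivialRelation]
    intro l r x hrx
    choose idx y hy using fun k => hexists (x k)
    obtain ⟨j, hj⟩ := Finite.exists_le idx
    have h1 : DirectLimit.Algebra.of G f j (∑ k, r k • f _ _ (hj k) (y k)) = 0 := by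
      rw [map_sum, ← hrx]
      exact Finset.sum_congr rfl fun k _ => by rw [map_smul, DirectLimit.Algebra.of_f, hy]
    obtain ⟨j', hjj', hz⟩ := (DirectLimit.exists_eq_zero (f := f) ⟨j, _⟩).1 h1
    have h2 : ∑ k, r k • f _ _ ((hj k).trans hjj') (y k) = 0 := by
      rw [← hz, map_sum]
      exact Finset.sum_congr rfl fun k _ => by
        rw [map_smul]
        exact congrArg _ (DirectedSystem.map_map (f := fun i j h => f i j h) (hj k) hjj' (y k)).symm
    obtain ⟨n, a, y', hy', ha'⟩ := Module.Flat.iff_forall_isTrivialRelation.1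
      (inferInstance : Module.Flat R (G j')) h2
    refine ⟨n, a, fun t => DirectLimit.Algebra.of G f j' (y' t), fun k => ?_, ha'⟩
    rw [← hy k, ← DirectLimit.Algebra.of_f (f := f) ((hj k).trans hjj')]
    refine (congrArg _ (hy' k)).trans ?_
    rw [map_sum]
    exact Finset.sum_congr rfl fun t _ => by rw [map_smul]
  refine RegHomLib.isRegularHom_of_fields hN fun K _ _ _ hKn => isRegularRing_iff.2 fun Q _ => ?_
  let T := K ⊗[R] Λ
  haveI : IsNoetherianRing T := hKn
  let L := Localization.AtPrime Q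
  haveI : IsNoetherianRing L := IsLocalization.isNoetherianRing Q.primeCompl _ inferInstance
  haveI : IsLocalHom (algebraMap K L) := ⟨fun x hx => isUnit_iff_ne_zero.2 fun h0 => by
    rw [h0, map_zero] at hx
    exact not_isUnit_zero hx⟩
  have hfs : CAlgX.IsAdicFormallySmooth K L (maximalIdeal L) := by
    refine iff_lift_small.2 fun A _ _ _ _ _ J hJ hlen _ ψ _ _ => ?_
    letI : Algebra R A := ((algebraMap K A).comp (algebraMap R K)).toAlgebra
    haveI : IsScalarTower R K A := IsScalarTower.of_algebraMap_eq fun _ => rfl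
    have hmJ : ∀ a ∈ maximalIdeal A, ∀ j ∈ J, a * j = 0 := by
      haveI := Module.length_eq_one_iff.1 hlen
      intro a ha j hj
      have hann : Module.annihilator A J = maximalIdeal A :=
        IsLocalRing.eq_maximalIdeal (IsSimpleModule.annihilator_isMaximal)
      have := Module.mem_annihilator.1 (hann ▸ ha : a ∈ Module.annihilator A J) ⟨j, hj⟩
      exact congrArg Subtype.val this
    let ψΛ : Λ →ₐ[R] A ⧸ J :=
      ((ψ.comp (IsScalarTower.toAlgHom K T L)).restrictScalars R).comp Algebra.TensorProduct.includeRight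
    obtain ⟨χ, hχc, hχ⟩ := exists_compatible_lifts (f := f) (fun i => (inferInstance : Algebra.FormallySmooth R (G i)))
      J hJ hmJ (fun i => ψΛ.comp (DirectLimit.Algebra.of G f i)) (fun i j h g => by
        exact congrArg ψΛ (DirectLimit.Algebra.of_f h g))
    let χΛ : Λ →ₐ[R] A := DirectLimit.Algebra.lift G f A χ hχc
    have hχΛ : ∀ x, Ideal.Quotient.mk J (χΛ x) = ψΛ x := fun x => by
      obtain ⟨i, g, rfl⟩ := hexists x
      rw [DirectLimit.Algebra.lift_of]
      exact hχ i g
    let χT : T →ₐ[K] A := Algebra.TensorProduct.lift (Algebra.ofId K A) χΛ fun _ _ => Commute.all _ _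
    have hχT : (Ideal.Quotient.mkₐ K J).comp χT = ψ.comp (IsScalarTower.toAlgHom K T L) := by
      refine Algebra.TensorProduct.ext (AlgHom.ext fun c => ?_) (AlgHom.ext fun x => ?_)
      · exact (AlgHom.commutes _ c).trans (AlgHom.commutes _ c).symm
      · show Ideal.Quotient.mk J (χT ((1 : K) ⊗ₜ[R] x)) = _
        rw [show χT ((1 : K) ⊗ₜ[R] x) = χΛ x from (Algebra.TensorProduct.lift_tmul (Algebra.ofId K A) χΛ
          (fun _ _ => Commute.all _ _) (1 : K) x).trans (by rw [map_one, one_mul]), hχΛ]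
    have hu : ∀ y : Q.primeCompl, IsUnit (χT (y : T)) := fun y => by
      refine IsNilpotent.isUnit_quotient_mk_iff ⟨2, hJ⟩ |>.1 ?_
      rw [show Ideal.Quotient.mk J (χT (y : T)) = ψ (algebraMap T L (y : T)) from AlgHom.congr_fun hχT y]
      exact (IsLocalization.map_units L y).map ψ
    refine ⟨IsLocalization.liftAlgHom (M := Q.primeCompl) (f := χT) hu, ?_⟩
    refine AlgHom.coe_ringHom_injective (IsLocalization.ringHom_ext Q.primeCompl (RingHom.ext fun x => ?_))
    show Ideal.Quotient.mk J (IsLocalization.lift hu (algebraMap T L x)) = ψ (algebraMap T L x)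
    rw [IsLocalization.lift_eq]
    exact AlgHom.congr_fun hχT x
  exact (S2471.result.1 hfs).1

end Groth.Agent.AdicFS
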